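import Mathlib
import Cfsg.Agent.H691.StExt
import Cfsg.Agent.H619.R4.Defs
import Cfsg.Agent.H687.Good

/-!
# The real extension of the Steinberg character (helper685, S4554)

* `char_inv` : the character of the Steinberg module of an overgroup is real;
* `rd_steinberg` : `RD G N (p ^ a)`, `p ^ a = |N|_p`, for a normal subgroup `N` with a split (B,N)-pair.
-/

set_option autoImplicit false

namespace Cfsg.Agent.H685.R4

open Cfsg Cfsg.Agent.LieExceptional.BNPairCore Cfsg.Agent.Tits.Core Cfsg.Agent.Tits.Core.Bldg Cfsg.Agent.Tits.OfBN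
  Cfsg.Agent.Schreier.BNSch Cfsg.Agent.Tits.OppRes Cfsg.Agent.FixBN.OfBN Cfsg.Agent.FixBN Representation
open Cfsg.Agent.H691.StExt
open scoped ComplexConjugate

section

variable {I : Type*} {M : CoxeterMatrix I} {W : Type*} [Group W] {cs : CoxeterSystem M W} {C : Type*}
  [Fintype C] (Δ : Bldg cs C)

/-- the bilinear form on the Steinberg module -/
noncomputable def bil : H163.Steinberg.St Δ →ₗ[ℂ] Module.Dual ℂ (H163.Steinberg.St Δ) :=
  LinearMap.mk₂ ℂ (fun f f' => ∑ x : C, (f : C → ℂ) x * (f' : C → ℂ) x)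
    (fun f g h => by
      rw [← Finset.sum_add_distrib]
      refine Finset.sum_congr rfl fun x _ => ?_
      rw [Submodule.coe_add, Pi.add_apply]
      ring)
    (fun c f h => by
      rw [smul_eq_mul, Finset.mul_sum]
      refine Finset.sum_congr rfl fun x _ => ?_
      rw [Submodule.coe_smul, Pi.smul_apply, smul_eq_mul]
      ring)
    (fun f g h => by
      rw [← Finset.sum_add_distrib]
      refine Finset.sum_congr rfl fun x _ => ?_
      rw [Submodule.coe_add, Pi.add_apply]
      ring)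
    (fun c f h => by
      rw [smul_eq_mul, Finset.mul_sum]
      refine Finset.sum_congr rfl fun x _ => ?_
      rw [Submodule.coe_smul, Pi.smul_apply, smul_eq_mul]
      ring)

theorem bil_apply (f f' : H163.Steinberg.St Δ) :
    bil Δ f f' = ∑ x : C, (f : C → ℂ) x * (f' : C → ℂ) x := rfl

theorem conj_mem {f : C → ℂ} (hf : f ∈ H163.Steinberg.St Δ) : (fun x => conj (f x)) ∈ H163.Steinberg.St Δ := by
  classical
  intro i x
  have h1 := hf i x
  unfold H163.Steinberg.psum at h1 ⊢
  have h2 := congrArg (starRingEnd ℂ) h1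
  rw [map_zero, map_sum] at h2
  refine Eq.trans ?_ h2
  refine Finset.sum_congr rfl fun y _ => ?_
  by_cases hy : y ∈ Δ.Pan i x
  · rw [if_pos hy, if_pos hy]
  · rw [if_neg hy, if_neg hy, map_zero]

theorem bil_injective : Function.Injective (bil Δ) := by
  rw [← LinearMap.ker_eq_bot, LinearMap.ker_eq_bot']
  intro f hf
  have h1 : bil Δ f ⟨_, conj_mem Δ f.2⟩ = 0 := by rw [hf]; rfl
  rw [bil_apply] at h1
  have h2 : ∑ x : C, (((f : C → ℂ) x * conj ((f : C → ℂ) x)) : ℂ) = ((∑ x : C, ‖(f : C → ℂ) x‖ ^ 2 : ℝ) : ℂ) := by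
    rw [Complex.ofReal_sum]
    refine Finset.sum_congr rfl fun x _ => ?_
    rw [Complex.mul_conj, Complex.normSq_eq_norm_sq]
  have h3 : (∑ x : C, ‖(f : C → ℂ) x‖ ^ 2 : ℝ) = 0 := by
    have h4 : ((∑ x : C, ‖(f : C → ℂ) x‖ ^ 2 : ℝ) : ℂ) = 0 := by rw [← h2]; exact h1
    exact_mod_cast h4
  rw [Finset.sum_eq_zero_iff_of_nonneg (fun x _ => by positivity)] at h3
  apply Subtype.ext
  funext x
  have h5 := h3 x (Finset.mem_univ x)
  simpa using h5

/-- **The Steinberg module of an overgroup is self-dual.** -/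
theorem char_inv {A : Type*} [Group A] [MulAction A C]
    (h : ∀ (a : A) (i : I) (x : C), ∃ j, ∀ y, y ∈ Δ.Pan i x ↔ a • y ∈ Δ.Pan j (a • x)) (a : A) :
    (repA Δ h).character a⁻¹ = (repA Δ h).character a := by
  classical
  have hfd : FiniteDimensional ℂ (H163.Steinberg.St Δ) := inferInstance
  have hbij : Function.Bijective (bil Δ) :=
    ⟨bil_injective Δ, (LinearMap.injective_iff_surjective_of_finrank_eq_finrank
      (Subspace.dual_finrank_eq).symm).1 (bil_injective Δ)⟩
  let e := LinearEquiv.ofBijective (bil Δ) hbij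
  have he : ∀ f, e f = bil Δ f := fun f => rfl
  have hint : ∀ f f', bil Δ (repA Δ h a f) f' = bil Δ f (repA Δ h a⁻¹ f') := by
    intro f f'
    rw [bil_apply, bil_apply]
    refine (Fintype.sum_equiv (MulAction.toPerm a) _ _ fun x => ?_).symm
    change (f : C → ℂ) x * (f' : C → ℂ) (a⁻¹⁻¹ • x) = (f : C → ℂ) (a⁻¹ • a • x) * (f' : C → ℂ) (a • x)
    rw [inv_inv, inv_smul_smul]
  have hconj : e.conj (repA Δ h a) = Module.Dual.transpose (repA Δ h a⁻¹) := by
    refine LinearMap.ext fun φ => LinearMap.ext fun f' => ?_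
    obtain ⟨f, rfl⟩ := e.surjective φ
    rw [LinearEquiv.conj_apply_apply, e.symm_apply_apply, he, he, hint]
    rfl
  show LinearMap.trace ℂ _ (repA Δ h a⁻¹) = LinearMap.trace ℂ _ (repA Δ h a)
  rw [← LinearMap.trace_conj' (repA Δ h a) e, hconj, LinearMap.trace_transpose']

end

/-- **The Steinberg character extends to a real character.** -/
theorem exists_ext_hom {K : Type*} [Group K] [Finite K] {A : Type*} [Group A] {p : ℕ} [Fact p.Prime]
    (h : FixBN.HasSplit p K) (f : K →* A) (ψ : A →* MulAut K) (hψ : ∀ k, ψ (f k) = MulAut.conj k) :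
    ∃ χ : A → ℂ, IsIrrCharacter A χ ∧ IsIrrCharacter K (χ ∘ f) ∧ (∀ Q : Sylow p K, χ 1 = Nat.card Q) ∧
      ∀ a, χ a⁻¹ = χ a := by
  classical
  obtain ⟨P, U, -, S⟩ := h
  have hN : ((P.B ⊓ P.N).subgroupOf P.N).Normal := Tits.OfBN.normal_subgroupOf P
  obtain ⟨M, cs, hcs⟩ := S0320.result P
  have Sy := FixBN.OfBN.sys (Equiv.refl P.S) cs hcs S
  have : Fintype (K ⧸ P.B) := Fintype.ofFinite _
  let act : MulAction A (K ⧸ P.B) :=
    { smul := fun a x => th S (ψ a) x
      one_smul := by
        intro x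
        show th S (ψ 1) x = x
        rw [map_one, ← map_one (MulAut.conj : K →* MulAut K), th_conj, one_smul]
      mul_smul := by
        intro a b x
        show th S (ψ (a * b)) x = th S (ψ a) (th S (ψ b) x)
        rw [map_mul]
        exact th_mul S (ψ a) (ψ b) x }
  have hsmul : ∀ (k : K) (x : K ⧸ P.B), f k • x = k • x := by
    intro k x
    show th S (ψ (f k)) x = k • x
    rw [hψ, th_conj]
  have hpan : ∀ (a : A) (i : P.S) (x : K ⧸ P.B), ∃ j, ∀ y,
      y ∈ (bldg P (Equiv.refl P.S) cs hcs).Pan i x ↔ a • y ∈ (bldg P (Equiv.refl P.S) cs hcs).Pan j (a • x) :=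
    fun a i x => th_pan S (Equiv.refl P.S) cs hcs (ψ a) i x
  set ρ := repA (bldg P (Equiv.refl P.S) cs hcs) (A := A) hpan with hρ
  have hrestr : (ρ.comp f : Representation ℂ K _) = H163.Steinberg.rep (G := K) Sy.iso := by
    refine MonoidHom.ext fun k => LinearMap.ext fun v => Subtype.ext ?_
    funext x
    change (v : _ → ℂ) ((f k)⁻¹ • x) = (v : _ → ℂ) (k⁻¹ • x)
    rw [← map_inv, hsmul]
  obtain ⟨c0⟩ : Nonempty (K ⧸ P.B) := ⟨QuotientGroup.mk 1⟩
  have hopp : ∀ c, ∃ d, (bldg P (Equiv.refl P.S) cs hcs).Opp c d := fun c => Tits.Opp.exists_opp _ c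
  have hirr := H163.Steinberg.isIrreducible Sy (fun x y => MulAction.exists_smul_eq K x y) c0 (hopp c0)
  have hirrA : ρ.IsIrreducible := isIrreducible_of_restrict ρ f (by rw [hrestr]; exact hirr)
  have hchar : ρ.character ∘ f = (H163.Steinberg.rep (G := K) Sy.iso).character := by
    rw [← hrestr]
    rfl
  refine ⟨ρ.character, Characters.Core.isIrrCharacter_of_rep _ hirrA, ?_, fun Q => ?_, fun a => char_inv _ hpan a⟩
  · rw [hchar]
    exact Characters.Core.isIrrCharacter_of_rep _ hirr
  · obtain ⟨c, hc⟩ := Sy.exists_fix Q Q.isPGroup'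
    have hQ : (Q : Subgroup K) = Sy.U c :=
      (Q.is_maximal' (Sy.isP c) (Sy.max c Q Q.isPGroup' hc)).symm
    have h1 := congrFun hchar 1
    rw [Function.comp_apply, map_one] at h1
    rw [h1, H163.Steinberg.character_apply Sy c (hopp c) 1 (one_mem _), if_pos rfl, ← hQ]

universe u

theorem im_eq_zero {G : Type u} [Group G] [Finite G] {χ : G → ℂ} (hχ : IsIrrCharacter G χ)
    (h : ∀ g, χ g⁻¹ = χ g) (g : G) : (χ g).im = 0 := by
  have h1 := Characters.Core.isCharacter_apply_inv (Characters.Core.isIrr_isCharacter hχ) g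
  rw [h] at h1
  exact Complex.conj_eq_iff_im.1 h1.symm

/-- **The real Steinberg character of an almost simple group.** -/
theorem rd_steinberg {G : Type u} [Group G] [Finite G] (N : Subgroup G) [N.Normal] {p : ℕ} [Fact p.Prime]
    (h : FixBN.HasSplit p N) (hp : p ∣ Nat.card N) : H619.R4.RD G N (p ^ (Nat.card N).factorization p) := by
  classical
  have := Fintype.ofFinite N
  obtain ⟨χ, h1, h2, h3, h4⟩ := exists_ext_hom h N.subtype MulAut.conjNormal (fun k => by
    ext x
    simp)
  have hd : χ 1 = ((p ^ (Nat.card N).factorization p : ℕ) : ℂ) := by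
    have Q : Sylow p N := default
    rw [h3 Q, Q.card_eq_multiplicity]
  have hone : 1 < p ^ (Nat.card N).factorization p := by
    refine Nat.one_lt_pow ?_ (Fact.out : p.Prime).one_lt
    exact ((Fact.out : p.Prime).factorization_pos_of_dvd Nat.card_pos.ne' hp).ne'
  refine ⟨⟨χ, h1⟩, im_eq_zero h1 h4, ?_, H687.charDegree_of_eq hd⟩
  by_contra hcon
  push Not at hcon
  -- then the restriction is the multiple of the trivial character
  have h5 : ∀ n : N, (χ ∘ N.subtype) n = χ 1 := fun n => hcon n n.2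
  have h6 := Characters.Core.classInner_irr_self h2
  rw [Characters.Core.classInner_def] at h6
  have h7 : ∑ g : N, (χ ∘ N.subtype) g * conj ((χ ∘ N.subtype) g) = (Nat.card N : ℂ) * (χ 1 * conj (χ 1)) := by
    rw [Finset.sum_congr rfl fun n _ => by rw [h5 n], Finset.sum_const, Finset.card_univ, nsmul_eq_mul,
      Nat.card_eq_fintype_card]
  rw [h7, inv_mul_cancel_left₀ (by exact_mod_cast Nat.card_pos.ne'), hd, map_natCast] at h6
  have h8 : (p ^ (Nat.card N).factorization p) * (p ^ (Nat.card N).factorization p) = 1 := by exact_mod_cast h6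
  have h9 := Nat.mul_le_mul hone.le hone.le
  nlinarith

end Cfsg.Agent.H685.R4
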