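import Mathlib
import Cfsg.Agent.H949.SubInv
import Cfsg.Agent.H687.Ext

/-!
# Real constituents of a permutation character (helper685, S4554)

* `real_of_dc` : if all double cosets of `H` are closed under inversion, all constituents of `1_H^G` are real;
* `exists_odd` : if `|G : H|` is even, `1_H^G` has a nontrivial real constituent of odd degree.
-/

set_option autoImplicit false

namespace Cfsg.Agent.H685.R4

open Cfsg Cfsg.Agent.H949.SubInv
open scoped ComplexConjugate

universe u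

variable {G : Type u} [Group G] [Finite G]

/-- the conjugate of an irreducible character -/
noncomputable def cIrr (χ : IrrCharacter G) : IrrCharacter G :=
  ⟨fun g => conj ((χ : G → ℂ) g), Characters.Core.isIrr_conj χ.2⟩

theorem cIrr_apply (χ : IrrCharacter G) (g : G) : (cIrr χ : G → ℂ) g = conj ((χ : G → ℂ) g) := rfl

theorem cIrr_apply' (χ : IrrCharacter G) (g : G) : (cIrr χ : G → ℂ) g = (χ : G → ℂ) g⁻¹ := by
  rw [cIrr_apply, Characters.Core.isCharacter_apply_inv (Characters.Core.isIrr_isCharacter χ.2)]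

theorem cIrr_cIrr (χ : IrrCharacter G) : cIrr (cIrr χ) = χ := by
  apply Subtype.ext
  funext g
  rw [cIrr_apply, cIrr_apply, Complex.conj_conj]

theorem real_iff (χ : IrrCharacter G) : cIrr χ = χ ↔ ∀ g, (χ : G → ℂ) g⁻¹ = (χ : G → ℂ) g := by
  constructor
  · intro h g
    rw [← cIrr_apply', h]
  · intro h
    apply Subtype.ext
    funext g
    rw [cIrr_apply', h]

/-- the sum over a subgroup of the conjugate -/
theorem sum_cIrr (H : Subgroup G) [Fintype H] (χ : IrrCharacter G) :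
    ∑ h : H, (cIrr χ : G → ℂ) h = ∑ h : H, (χ : G → ℂ) h := by
  rw [← Equiv.sum_comp (Equiv.inv H) (fun h : H => (χ : G → ℂ) h)]
  refine Finset.sum_congr rfl fun h _ => ?_
  rw [cIrr_apply']
  rfl

/-- **If all double cosets of `H` are closed under inversion, the constituents of `1_H^G` are real.** -/
theorem real_of_dc (H : Subgroup G) [Fintype H] {χ : G → ℂ} (hχ : IsIrrCharacter G χ) (h0 : ∑ h : H, χ h ≠ 0)
    (hH : ∀ g : G, ∃ a ∈ H, ∃ b ∈ H, g⁻¹ = a * g * b) (s : G) : χ s⁻¹ = χ s := by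
  classical
  have : Fintype G := Fintype.ofFinite G
  have hS : (Nat.card G : ℂ) ≠ 0 := by exact_mod_cast Nat.card_pos.ne'
  obtain ⟨X, hX⟩ : ∃ X : IrrCharacter G, X = ⟨χ, hχ⟩ := ⟨_, rfl⟩
  have hXχ : (X : G → ℂ) = χ := by rw [hX]
  by_contra hne
  have hne' : (cIrr X : G → ℂ) ≠ χ := by
    intro h
    apply hne
    rw [← hXχ, ← cIrr_apply', h, hXχ]
  have hψ := (cIrr X).2
  have hcl := Characters.Core.isIrr_isClassFunction hχ
  -- biinvariance
  have hQ : ∀ g : G, ∑ h : H, (cIrr X : G → ℂ) (h * g) = ∑ h : H, χ (h * g) := by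
    intro g
    have h1 : ∑ h : H, (cIrr X : G → ℂ) (h * g) = ∑ h : H, χ (h * g⁻¹) := by
      rw [← Equiv.sum_comp (Equiv.inv H) (fun h : H => χ (h * g⁻¹))]
      refine Finset.sum_congr rfl fun h _ => ?_
      rw [cIrr_apply', hXχ, mul_inv_rev]
      show χ (g⁻¹ * (h : G)⁻¹) = χ ((h : G)⁻¹ * g⁻¹)
      rw [← hcl ((h : G)⁻¹ * g⁻¹) g⁻¹]
      congr 1
      group
    obtain ⟨a, ha, b, hb, h2⟩ := hH g
    rw [h1, h2]
    have h3 : ∑ h : H, χ (h * (a * g * b)) = ∑ h : H, χ ((b * h * a : G) * g) := by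
      refine Finset.sum_congr rfl fun h _ => ?_
      have h4 := hcl ((h : G) * (a * g * b)) b
      rw [← h4]
      congr 1
      group
    rw [h3]
    exact Equiv.sum_comp ((Equiv.mulLeft (⟨b, hb⟩ : H)).trans (Equiv.mulRight (⟨a, ha⟩ : H))) (fun h : H => χ (h * g))
  have h5 : ∑ g : G, conj (χ g) * ∑ h : H, (cIrr X : G → ℂ) (h * g) = 0 := by
    have h6 : ∀ g : G, conj (χ g) * ∑ h : H, (cIrr X : G → ℂ) (h * g) =
        ∑ h : H, conj (χ g) * (cIrr X : G → ℂ) (h * g) := fun g => Finset.mul_sum _ _ _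
    rw [Finset.sum_congr rfl fun g _ => h6 g, Finset.sum_comm]
    refine Finset.sum_eq_zero fun h _ => ?_
    have h7 := sum_conj_mul hχ hψ (h : G)
    rw [Characters.Core.classInner_irr_ne hψ hχ hne', mul_zero, zero_mul, zero_div] at h7
    exact h7
  have h8 : ∑ g : G, conj (χ g) * ∑ h : H, χ (h * g) = (Nat.card G : ℂ) / χ 1 * ∑ h : H, χ h := by
    have h6 : ∀ g : G, conj (χ g) * ∑ h : H, χ (h * g) = ∑ h : H, conj (χ g) * χ (h * g) :=
      fun g => Finset.mul_sum _ _ _
    rw [Finset.sum_congr rfl fun g _ => h6 g, Finset.sum_comm, Finset.mul_sum]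
    refine Finset.sum_congr rfl fun h _ => ?_
    rw [sum_conj_mul hχ hχ (h : G), Characters.Core.classInner_irr_self hχ, mul_one, mul_div_right_comm]
  rw [Finset.sum_congr rfl fun g _ => by rw [hQ g], h8] at h5
  rcases mul_eq_zero.1 h5 with h9 | h9
  · exact div_ne_zero hS (Characters.Core.isIrr_apply_one_ne_zero hχ) h9
  · exact h0 h9

theorem exists_mult (H : Subgroup G) [Fintype H] (χ : IrrCharacter G) :
    ∃ m : ℕ, ∑ h : H, (χ : G → ℂ) h = (Nat.card H : ℂ) * m := by
  have : Fintype G := Fintype.ofFinite G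
  exact H949.SubDeg.sum_eq_nat H (Characters.Core.isIrr_isCharacter χ.2)

/-- the multiplicity in the permutation character -/
noncomputable def mult (H : Subgroup G) [Fintype H] (χ : IrrCharacter G) : ℕ := (exists_mult H χ).choose

theorem mult_spec (H : Subgroup G) [Fintype H] (χ : IrrCharacter G) :
    ∑ h : H, (χ : G → ℂ) h = (Nat.card H : ℂ) * mult H χ := (exists_mult H χ).choose_spec

theorem mult_eq_zero_iff (H : Subgroup G) [Fintype H] (χ : IrrCharacter G) :
    mult H χ = 0 ↔ ∑ h : H, (χ : G → ℂ) h = 0 := by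
  have hH : (Nat.card H : ℂ) ≠ 0 := by exact_mod_cast Nat.card_pos.ne'
  rw [mult_spec, mul_eq_zero, or_iff_right hH, Nat.cast_eq_zero]

theorem mult_cIrr (H : Subgroup G) [Fintype H] (χ : IrrCharacter G) : mult H (cIrr χ) = mult H χ := by
  have hH : (Nat.card H : ℂ) ≠ 0 := by exact_mod_cast Nat.card_pos.ne'
  have h1 := mult_spec H (cIrr χ)
  rw [sum_cIrr, mult_spec] at h1
  exact_mod_cast (mul_left_cancel₀ hH h1).symm

theorem deg_cIrr (χ : IrrCharacter G) : charDegree (cIrr χ : G → ℂ) = charDegree (χ : G → ℂ) := by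
  have h1 := H687.Irr.one_eq (cIrr χ)
  rw [cIrr_apply', inv_one, H687.Irr.one_eq χ] at h1
  exact_mod_cast h1.symm

/-- the degree of the permutation character -/
theorem sum_deg_mult [Fintype (IrrCharacter G)] (H : Subgroup G) [Fintype H] :
    ∑ χ : IrrCharacter G, charDegree (χ : G → ℂ) * mult H χ = H.index := by
  classical
  have : Fintype G := Fintype.ofFinite G
  have hH : (Nat.card H : ℂ) ≠ 0 := by exact_mod_cast Nat.card_pos.ne'
  have h1 : ∑ χ : IrrCharacter G, (χ : G → ℂ) 1 * ∑ h : H, (χ : G → ℂ) h = (Nat.card G : ℂ) := by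
    have h2 : ∀ χ : IrrCharacter G, (χ : G → ℂ) 1 * ∑ h : H, (χ : G → ℂ) h =
        ∑ h : H, (χ : G → ℂ) 1 * (χ : G → ℂ) h := fun χ => Finset.mul_sum _ _ _
    rw [Finset.sum_congr rfl fun χ _ => h2 χ, Finset.sum_comm]
    have h3 : ∀ h : H, ∑ χ : IrrCharacter G, (χ : G → ℂ) 1 * (χ : G → ℂ) h =
        if h = 1 then (Nat.card G : ℂ) else 0 := by
      intro h
      rw [Characters.Counting.sum_irr_one_mul]
      simp only [OneMemClass.coe_eq_one]
    rw [Finset.sum_congr rfl fun h _ => h3 h, Finset.sum_ite_eq' Finset.univ (1 : H), if_pos (Finset.mem_univ _)]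
  have h4 : (Nat.card H : ℂ) * ((∑ χ : IrrCharacter G, charDegree (χ : G → ℂ) * mult H χ : ℕ) : ℂ) =
      (Nat.card H : ℂ) * (H.index : ℂ) := by
    rw [← Nat.cast_mul (Nat.card H) H.index, Subgroup.card_mul_index, ← h1, Nat.cast_sum, Finset.mul_sum]
    refine Finset.sum_congr rfl fun χ _ => ?_
    rw [mult_spec, H687.Irr.one_eq, Nat.cast_mul]
    ring
  exact_mod_cast mul_left_cancel₀ hH h4

/-- the trivial character -/
noncomputable def triv (G : Type u) [Group G] : IrrCharacter G := ⟨1, Characters.Core.isIrr_one⟩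

theorem mult_triv (H : Subgroup G) [Fintype H] : mult H (triv G) = 1 := by
  have hH : (Nat.card H : ℂ) ≠ 0 := by exact_mod_cast Nat.card_pos.ne'
  have h1 := mult_spec H (triv G)
  have h2 : ∑ h : H, ((triv G : IrrCharacter G) : G → ℂ) h = (Nat.card H : ℂ) := by
    show ∑ _h : H, (1 : ℂ) = _
    rw [Finset.sum_const, Finset.card_univ, nsmul_eq_mul, mul_one, Nat.card_eq_fintype_card]
  rw [h2] at h1
  have h3 : (Nat.card H : ℂ) * 1 = (Nat.card H : ℂ) * (mult H (triv G) : ℂ) := by rw [mul_one]; exact h1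
  exact_mod_cast (mul_left_cancel₀ hH h3).symm

omit [Finite G] in
theorem deg_triv : charDegree ((triv G : IrrCharacter G) : G → ℂ) = 1 := by
  have h1 := H687.Irr.one_eq (triv G)
  have h2 : ((triv G : IrrCharacter G) : G → ℂ) 1 = 1 := rfl
  rw [h2] at h1
  exact_mod_cast h1.symm

/-- **If `|G : H|` is even there is a nontrivial real constituent of `1_H^G` of odd degree.** -/
theorem exists_odd (H : Subgroup G) [Fintype H] (hidx : Even H.index) :
    ∃ χ : IrrCharacter G, χ ≠ triv G ∧ (∀ g, (χ : G → ℂ) g⁻¹ = (χ : G → ℂ) g) ∧ ∑ h : H, (χ : G → ℂ) h ≠ 0 ∧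
      Odd (charDegree (χ : G → ℂ)) := by
  classical
  have : Finite (IrrCharacter G) := Characters.Core.finite_irr
  have : Fintype (IrrCharacter G) := Fintype.ofFinite _
  by_contra hno
  push Not at hno
  obtain ⟨f, hf⟩ : ∃ f : IrrCharacter G → ZMod 2, ∀ χ, f χ = ((charDegree (χ : G → ℂ) * mult H χ : ℕ) : ZMod 2) :=
    ⟨_, fun _ => rfl⟩
  have h0 : ∑ χ : IrrCharacter G, f χ = 0 := by
    rw [Finset.sum_congr rfl fun χ _ => hf χ, ← Nat.cast_sum, sum_deg_mult]
    exact (ZMod.natCast_eq_zero_iff_even).2 hidx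
  rw [← Finset.add_sum_erase _ _ (Finset.mem_univ (triv G))] at h0
  have h1 : f (triv G) = 1 := by rw [hf, mult_triv, deg_triv]; norm_num
  have h2 : ∑ χ ∈ Finset.univ.erase (triv G), f χ = 0 := by
    have hfc : ∀ χ, f (cIrr χ) = f χ := by
      intro χ
      rw [hf, hf, mult_cIrr, deg_cIrr]
    refine Finset.sum_involution (fun χ _ => cIrr χ) ?_ ?_ ?_ ?_
    · intro χ _
      rw [hfc]
      exact CharTwo.add_self_eq_zero _
    · intro χ hχ hne he
      apply hne
      by_cases hm : ∑ h : H, (χ : G → ℂ) h = 0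
      · rw [hf, (mult_eq_zero_iff H χ).2 hm, mul_zero, Nat.cast_zero]
      · have h3 := hno χ (Finset.ne_of_mem_erase hχ) ((real_iff χ).1 he) hm
        rw [hf, Nat.cast_mul, (ZMod.natCast_eq_zero_iff_even).2 (Nat.not_odd_iff_even.1 h3), zero_mul]
    · intro χ hχ
      rw [Finset.mem_erase] at hχ ⊢
      refine ⟨fun h => hχ.1 ?_, Finset.mem_univ _⟩
      rw [← cIrr_cIrr χ, h]
      apply Subtype.ext
      funext g
      rw [cIrr_apply']
      rfl
    · intro χ _
      exact cIrr_cIrr χ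
  rw [h1, h2, add_zero] at h0
  exact one_ne_zero h0

end Cfsg.Agent.H685.R4
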