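import Cfsg.Agent.H619.R4.SporBase
import Cfsg.Agent.H843.IMC.Co1B
import Cfsg.Agent.H721.CoMat
import Cfsg.Agent.H997.OutCard
import Cfsg.Agent.S2069
import Cfsg.Agent.S0399

/-!
# The row `Co1` (S4554, helper685)

A real element of order `13 ∥ |Co1|` and the real irreducible character of degree `299 = 13 · 23`.
-/

set_option autoImplicit false

open Cfsg

namespace Cfsg.Agent.H685.R4

open Cfsg.Agent.H619.R4 (RC Row row_one_prime index_congr)
open Cfsg.Agent.H419.LeechIrr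

universe u

theorem rc_co1 : RC Spor.Co1 299 := by
  obtain ⟨ξ, hd, h⟩ := Cfsg.Agent.H843.IMC.Co1B.exists_299
  refine ⟨ξ, fun g => ?_, hd⟩
  obtain ⟨g, rfl⟩ := Cfsg.Agent.CoOneType.CoOneE.pr_surjective g
  have h1 := h g
  have h2 : ∀ x : Co0, (Cfsg.Agent.H419.Spor.Co1.chi x).im = 0 := fun x =>
    Complex.conj_eq_iff_im.1 (Cfsg.Agent.H843.IMC.Co1B.chi_real x)
  have h3 : (Cfsg.Agent.H843.IMC.Co1B.om g).im = 0 := by
    have e : ∀ z : ℂ, z.im = 0 → (z : ℂ) = ((z.re : ℝ) : ℂ) := fun z hz => by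
      apply Complex.ext
      · simp
      · simpa using hz
    rw [Cfsg.Agent.H843.IMC.Co1B.om, e _ (h2 g), e _ (h2 (g * g))]
    have : ((((Cfsg.Agent.H419.Spor.Co1.chi g).re : ℝ) : ℂ) ^ 2 +
        (((Cfsg.Agent.H419.Spor.Co1.chi (g * g)).re : ℝ) : ℂ)) / 2 =
        ((((Cfsg.Agent.H419.Spor.Co1.chi g).re ^ 2 + (Cfsg.Agent.H419.Spor.Co1.chi (g * g)).re) / 2 : ℝ) : ℂ) := by
      push_cast
      rfl
    rw [this, Complex.ofReal_im]
  have h4 := congrArg Complex.im h1
  rw [h3, Complex.add_im, Complex.one_im, zero_add] at h4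
  exact h4.symm

/-- **The row `Co1`.** -/
theorem row_co1 {S : Type u} [Group S] (h : Spor.IsoCo1 S) : Row S := by
  obtain ⟨e⟩ := h
  have hc : Nat.card S = 4157776806543360000 := (Nat.card_congr e.toEquiv).trans Cfsg.Agent.S0399.result.2
  have : Finite S := Nat.finite_of_card_ne_zero (by rw [hc]; norm_num)
  refine row_one_prime ?_ (p := 13) (by norm_num) (by norm_num) (by rw [hc]; norm_num)
    (Cfsg.Agent.H721.CoMat.co1_thirteen.map_equiv e.symm) (rc_co1.congr e.symm) (by norm_num)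
  rw [index_congr e]
  exact Cfsg.Agent.S2069.result

end Cfsg.Agent.H685.R4
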