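import Cfsg.Agent.H619.R4.SporBase
import Cfsg.Agent.H661.SporTab
import Cfsg.Agent.HN.AutHS
import Cfsg.Agent.H769.PB.CoThreeRank5
import Cfsg.Agent.H997.OutCard
import Cfsg.Agent.S2071

/-!
# The row `Co3` (S4554, helper685)

A real element of order `7 ∥ |Co3|` and the real irreducible character of degree `8855 = 5 · 7 · 11 · 23`.
-/

set_option autoImplicit false

open Cfsg

namespace Cfsg.Agent.H685.R4

open Cfsg.Agent.H619.R4 (RC Row row_one_prime index_congr)

universe u

theorem rc_co3 : RC Spor.Co3 8855 := by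
  obtain ⟨-, χ, h1, h2⟩ := Cfsg.Agent.H769.PB.CoThreeRank5.exists_chars
  exact ⟨χ, h2, h1⟩

namespace HS

open Subgroup Cfsg.Agent.H661.Spor Cfsg.Agent.H722.RealP Cfsg.Agent.SporadicA.PermTab Cfsg.Agent.HN.HS100

/-- table of an involution (as in `H661.SporHS`) -/
def T : ℕ := 0x7c0e80d04c01e1641880604e02c2f01800401c0482909600c1083308c11c168600a60881e83409c13c0601e0240dc1e02502218c2484101a188020140840a8028480a00382e8150020ac2681705c0d82a0240b60642002803a1282881f04011011800010184130580580401803801410c1f8160be0c81d8450b404c2a81b0ac1701a8390a415c1781c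

theorem inT : InG Q T := word_of (L := [tY, tY, tY, tY, tY, tW, tW, tW, tW, tW, tX, tY, tY, tY, tY, tY, tX, tY, tX, tW, tY]) (mem3 inX inY inW) (by simp)
  (by decide +kernel)

theorem hasReal_Q : HasReal 7 Q :=
  Tab.hasReal inX inT (by norm_num) (by decide +kernel) (by decide +kernel) (by decide +kernel) 0
    (by decide +kernel)

theorem hasReal : HasReal 7 Cfsg.Spor.HS := by
  obtain ⟨⟨e⟩, -⟩ := Cfsg.Agent.HN.AutHS.nonempty_Q
  exact hasReal_Q.map_equiv e

end HS

/-- A real element of order `7` of `Co3`, from `HS`. -/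
theorem hasReal_co3 : Cfsg.Agent.H722.RealP.HasReal 7 Spor.Co3 :=
  HS.hasReal.map_injective (Subgroup.inclusion (inf_le_left : Spor.HS ≤ Spor.Co3))
    (Subgroup.inclusion_injective _)

/-- **The row `Co3`.** -/
theorem row_co3 {S : Type u} [Group S] (h : Spor.IsoCo3 S) : Row S := by
  obtain ⟨e⟩ := h
  have hc : Nat.card S = 495766656000 := (Nat.card_congr e.toEquiv).trans Cfsg.Agent.H843.IMC.Co3A.card_co3
  have : Finite S := Nat.finite_of_card_ne_zero (by rw [hc]; norm_num)
  refine row_one_prime ?_ (p := 7) (by norm_num) (by norm_num) (by rw [hc]; norm_num)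
    (hasReal_co3.map_equiv e.symm) (rc_co3.congr e.symm) (by norm_num)
  rw [index_congr e]
  exact Cfsg.Agent.S2071.result

end Cfsg.Agent.H685.R4
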