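import Cfsg.Agent.H685.R4.RowsTwo
import Cfsg.Agent.H579.RR.Psl2Row
import Cfsg.Agent.H579.RR.SzRow
import Cfsg.Agent.H579.RR.U3Row

/-!
# S4554, all groups of Lie type of characteristic two (helper685)

`row_lie_two` : `IsLieTypeChar 2 S → Row S`.
-/

set_option autoImplicit false
set_option linter.unusedSectionVars false

namespace Cfsg.Agent.H685.R4

open Cfsg Cfsg.Agent.Tits.Core Cfsg.Agent.H612
open Cfsg.Agent.H619.R4 (RD R3 Row)
open Cfsg.Agent.Omega.ML.Ex.Typ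
open Cfsg.Agent.LieRecognition.BNCox (cA)

universe u

variable {S : Type u} [Group S] [Finite S] [IsSimpleGroup S]

/-- **The groups of Lie type of characteristic two.** -/
theorem row_lie_two (hna : ¬ IsMulCommutative S) (hL : IsLieTypeChar 2 S) : Row S := by
  have hp2 : Fact (Nat.Prime 2) := ⟨Nat.prime_two⟩
  rcases id hL with h | h | h | h | h | h | h | h | h | h | h
  · obtain ⟨F, _, _, _, n, hn, h4, ⟨e⟩⟩ := h
    rcases Nat.lt_or_ge n 3 with h5 | h5
    · obtain rfl : n = 2 := by omega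
      exact H579.R4.row_psl2 F (h4 rfl) ⟨e⟩
    · obtain ⟨k, rfl⟩ : ∃ k, n = k + 1 := ⟨n - 1, by omega⟩
      exact row_A hna hL (by omega) ((typ_PSL k).of_equiv e.symm)
  · obtain ⟨F, _, _, _, m, hm, -, ⟨e⟩⟩ := h
    exact row_B hna hL hm ((typ_PSp (by omega)).of_equiv e.symm)
  · obtain ⟨F, _, _, _, n, q, hF, hn, hnq, ⟨e⟩⟩ := h
    rcases Nat.lt_or_ge n 4 with h5 | h5
    · obtain rfl : n = 3 := by omega
      refine H579.R4.row_psu3_two hF (fun h => hnq ⟨rfl, h⟩) ?_ ⟨e⟩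
      obtain ⟨k, -, hk⟩ := FiniteField.card F 2
      have h6 : Even (q ^ 2) := by
        rw [← hF, hk]
        exact (even_two).pow_of_ne_zero k.ne_zero
      exact (Nat.even_pow.1 h6).1
    · obtain ⟨m, hm, h⟩ := typ_PSU (p := 2) hF hn
      exact row_B hna hL (by omega) (h.of_equiv e.symm)
  · exfalso
    obtain ⟨F, _, _, _, m, hm, hodd, ⟨e⟩⟩ := h
    obtain ⟨k, -, hk⟩ := FiniteField.card F 2
    rw [hk] at hodd
    exact absurd hodd (by
      rw [Nat.not_odd_iff_even]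
      exact (even_two).pow_of_ne_zero k.ne_zero)
  · obtain ⟨F, _, _, _, m, hm, ⟨e⟩⟩ := h
    obtain ⟨n, rfl⟩ : ∃ n, m = n + 3 := ⟨m - 3, by omega⟩
    exact row_D hna hL (by omega) ((typ_PO_plus n).of_equiv e.symm)
  · obtain ⟨F, _, _, _, m, a, b, hm, hab, ⟨e⟩⟩ := h
    exact row_B hna hL (by omega) ((typ_PO_minus hab (by omega)).of_equiv e.symm)
  · rcases typ_of_exc h with h | h | h | h | h
    · exact row_G2 hna hL h
    · exact row_F4 hna hL h
    · exact row_E6 hna hL h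
    · exact row_E7 hna hL h
    · exact row_E8 hna hL h
  · obtain ⟨K, _, _, _, q, hq, ⟨hK, ⟨e⟩⟩ | ⟨hK, ⟨e⟩⟩⟩ := h
    · exact row_F4 hna hL ((typ_twE6 hq hK 2).of_equiv e.symm)
    · exact row_G2 hna hL ((typ_twD4 hq hK 2).of_equiv e.symm)
  · exact H579.R4.row_sz h.2
  · exact row_twF4 hna h.2
  · omega

end Cfsg.Agent.H685.R4
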