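import Mathlib
import Cfsg.Agent.H685.R4.Frame
import Cfsg.Agent.H949.LieDZ
import Cfsg.Agent.H687.Theta

/-!
# Constituents of the permutation characters of parabolic subgroups (helper685, S4554)

* `Cst H χ` : `χ` is a constituent of `1_H^G`;
* `nontriv` : a constituent `χ ≠ 1` of `1_H^G`, `G = N H`, is not trivial on `N`;
* `not_pow` : a character of `G`, not trivial on the socle of Lie type of characteristic `p`, with `P_J`-fixed points,
  `J ≠ ∅`, has degree not a power of `p`.
-/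

set_option autoImplicit false
set_option linter.unusedSectionVars false

namespace Cfsg.Agent.H685.R4

open Cfsg Cfsg.Agent.LieExceptional.BNPairCore Cfsg.Agent.Tits.Core Cfsg.Agent.Tits.OfBN
open Cfsg.Agent.H612.BNCosets Cfsg.Agent.FixBN
open scoped ComplexConjugate

universe u

section Cst

variable {G : Type u} [Group G] [Finite G]

/-- `χ` is a constituent of `1_H^G` -/
def Cst (H : Subgroup G) (χ : G → ℂ) : Prop := (∑ᶠ h : H, χ h) ≠ 0

theorem cst_iff (H : Subgroup G) [Fintype H] (χ : G → ℂ) : Cst H χ ↔ ∑ h : H, χ h ≠ 0 := by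
  rw [Cst, finsum_eq_sum_of_fintype]

theorem Cst.mono {χ : G → ℂ} (hχ : IsCharacter G χ) {K H : Subgroup G} (hKH : K ≤ H) (h : Cst H χ) : Cst K χ := by
  classical
  have := Fintype.ofFinite H
  have := Fintype.ofFinite K
  rw [cst_iff] at h ⊢
  obtain ⟨a, b, ha, hb, hab⟩ := H687.inner_mono (Subgroup.inclusion hKH)
    (Characters.Clifford.isCharacter_restrict H hχ) (Characters.Core.isCharacter_one (G := H))
  rw [Characters.Core.classInner_def] at ha hb
  simp only [Pi.one_apply, map_one, mul_one, Function.comp_apply] at ha hb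
  intro h0
  have h1 : (b : ℂ) = 0 := by
    rw [← hb]
    have h2 : ∑ x : K, χ ((Subgroup.inclusion hKH x : H) : G) = ∑ x : K, χ x := rfl
    rw [h2, h0, mul_zero]
  have h2 : b = 0 := by exact_mod_cast h1
  have h3 : a = 0 := by omega
  rw [h3, Nat.cast_zero] at ha
  rcases mul_eq_zero.1 ha with h4 | h4
  · exact absurd (inv_eq_zero.1 h4) (by exact_mod_cast Nat.card_pos.ne')
  · exact h h4

theorem sum_irr_eq_zero [Fintype G] {χ : IrrCharacter G} (h : χ ≠ triv G) : ∑ g : G, (χ : G → ℂ) g = 0 := by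
  have h1 := Characters.Core.classInner_irr_ne χ.2 (Characters.Core.isIrr_one (G := G))
    (fun e => h (Subtype.ext e))
  rw [Characters.Core.classInner_def] at h1
  simp only [Pi.one_apply, map_one, mul_one] at h1
  rcases mul_eq_zero.1 h1 with h4 | h4
  · exact absurd (inv_eq_zero.1 h4) (by exact_mod_cast Nat.card_pos.ne')
  · exact h4

/-- constituents of `1_H^G`, `G = N H`, are not trivial on `N` -/
theorem nontriv {N H : Subgroup G} [N.Normal] (hG : ∀ x : G, ∃ m ∈ N, ∃ h ∈ H, x = m * h) {χ : IrrCharacter G}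
    (h1 : χ ≠ triv G) (h2 : Cst H (χ : G → ℂ)) : ∃ n ∈ N, (χ : G → ℂ) n ≠ (χ : G → ℂ) 1 := by
  classical
  have := Fintype.ofFinite G
  have := Fintype.ofFinite H
  rw [cst_iff] at h2
  by_contra hcon
  push Not at hcon
  apply h2
  have h3 : ∑ g : G, ∑ h : H, (χ : G → ℂ) (g * h) = 0 := by
    rw [Finset.sum_comm]
    refine Finset.sum_eq_zero fun h _ => ?_
    have h4 := Equiv.sum_comp (Equiv.mulRight (h : G)) (fun g => (χ : G → ℂ) g)
    exact h4.trans (sum_irr_eq_zero h1)
  have h4 : ∀ g : G, ∑ h : H, (χ : G → ℂ) (g * h) = ∑ h : H, (χ : G → ℂ) h := by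
    intro g
    obtain ⟨m, hm, k, hk, rfl⟩ := hG g
    rw [← Equiv.sum_comp (Equiv.mulLeft (⟨k, hk⟩ : H)) (fun h : H => (χ : G → ℂ) h)]
    refine Finset.sum_congr rfl fun h _ => ?_
    rw [mul_assoc]
    exact H686.CharKit.apply_mul_of_eq (Characters.Core.isIrr_isCharacter χ.2) (hcon m hm) _
  rw [Finset.sum_congr rfl fun g _ => h4 g, Finset.sum_const, nsmul_eq_mul] at h3
  rcases mul_eq_zero.1 h3 with h5 | h5
  · exact absurd h5 (by exact_mod_cast Finset.card_ne_zero_of_mem (Finset.mem_univ (1 : G)))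
  · exact h5

end Cst

section BN

variable {G : Type u} [Group G] [Finite G] {N : Subgroup G} [N.Normal]
  (P : Cfsg.BNPair N) {I : Type*} (e : I ≃ P.S) {p : ℕ} {U : Subgroup N}

/-- the image of `P_J` in `G` -/
def PG (J : Set I) : Subgroup G := (PJ P e J).map N.subtype

theorem PG_le (J : Set I) : PG P e J ≤ (stb (PJ P e J) : Subgroup G) := by
  rintro _ ⟨m, hm, rfl⟩
  exact (coe_mem_stb_PJ P e).2 hm

theorem dvd_card_inf_J [Fact p.Prime] {P : Cfsg.BNPair N} {e : I ≃ P.S} (hs : Split P p U) {J : Set I} {j : I}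
    (hj : j ∈ J) (x : N) :
    p ∣ Nat.card ↥(PJ P e J ⊓ (PJ P e J).map (MulAut.conj x).toMonoidHom) := by
  have h1 := H687.dvd_card_inf hs (e j).2 x
  have h2 : P.parabolic {((e j : P.S) : N)} ≤ PJ P e J := by
    have h3 : PJ P e {j} ≤ PJ P e J := (H612.BNAut.PJ_le_iff P e).2 (Set.singleton_subset_iff.2 hj)
    unfold PJ at h3
    rw [H612.BNAut.gens_singleton] at h3
    exact h3
  exact h1.trans (Subgroup.card_dvd_of_le (inf_le_inf h2 (Subgroup.map_mono h2)))

/-- **Degrees not a power of the characteristic.** -/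
theorem not_pow [hp : Fact p.Prime] [IsSimpleGroup N] (hna : ∃ a b : N, a * b ≠ b * a) (hL : IsLieTypeChar p N)
    {P : Cfsg.BNPair N} {e : I ≃ P.S} (hs : Split P p U) {J : Set I} {j : I} (hj : j ∈ J) {χ : IrrCharacter G}
    (hχ : ∃ n ∈ N, (χ : G → ℂ) n ≠ (χ : G → ℂ) 1) (hc : Cst (PG P e J) (χ : G → ℂ)) (k : ℕ) :
    charDegree (χ : G → ℂ) ≠ p ^ k := by
  classical
  intro hk
  have := Fintype.ofFinite G
  have := Fintype.ofFinite N
  have hfi : Finite (IrrCharacter N) := Characters.Core.finite_irr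
  have := Fintype.ofFinite (IrrCharacter N)
  have := Fintype.ofFinite (PJ P e J)
  have := Fintype.ofFinite (PG P e J)
  rw [cst_iff] at hc
  have hres := Characters.Clifford.isCharacter_restrict N (Characters.Core.isIrr_isCharacter χ.2)
  obtain ⟨a, ha⟩ := Characters.Core.exists_nat_comb hres
  -- a constituent with fixed points
  obtain ⟨θ, hθa, hθ⟩ : ∃ θ : IrrCharacter N, a θ ≠ 0 ∧ ∑ x : PJ P e J, (θ : N → ℂ) x ≠ 0 := by
    by_contra hcon
    push Not at hcon
    apply hc
    have h1 : ∑ x : PG P e J, (χ : G → ℂ) x = ∑ x : PJ P e J, (χ : G → ℂ) ((x : N) : G) := by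
      symm
      let E : PJ P e J ≃ PG P e J := ((PJ P e J).equivMapOfInjective N.subtype N.subtype_injective).toEquiv
      exact Fintype.sum_equiv E
        (fun x : PJ P e J => (χ : G → ℂ) ((x : N) : G)) (fun x : PG P e J => (χ : G → ℂ) x) (fun x => rfl)
    have h2 : ∀ x : N, (χ : G → ℂ) x = ∑ θ : IrrCharacter N, (a θ : ℂ) * (θ : N → ℂ) x := by
      intro x
      have h3 := congrFun ha x
      rw [H687.comb_apply] at h3
      exact h3
    have h4 : ∀ x : PJ P e J, (χ : G → ℂ) ((x : N) : G) = ∑ θ : IrrCharacter N, (a θ : ℂ) * (θ : N → ℂ) x :=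
      fun x => h2 x
    rw [h1, Finset.sum_congr rfl fun x _ => h4 x, Finset.sum_comm]
    refine Finset.sum_eq_zero fun θ _ => ?_
    rw [← Finset.mul_sum]
    by_cases h3 : a θ = 0
    · rw [h3, Nat.cast_zero, zero_mul]
    · rw [hcon θ h3, mul_zero]
  have hin : classInner (fun n : N => (χ : G → ℂ) n) (θ : N → ℂ) ≠ 0 := by
    rw [ha, Characters.Core.classInner_sum_nsmul_irr]
    exact_mod_cast hθa
  have hθ1 : (θ : N → ℂ) ≠ 1 := by
    intro h1
    have h2 := H612.Heredity.sum_coset_eq_zero N χ hχ 1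
    simp only [mul_one] at h2
    apply hin
    rw [h1, Characters.Core.classInner_def]
    simp only [Pi.one_apply, map_one, mul_one]
    rw [h2, mul_zero]
  have hdvd := H612.Heredity.degree_dvd N χ θ hin
  rw [hk] at hdvd
  obtain ⟨i, -, hi⟩ := (Nat.dvd_prime_pow hp.1).1 hdvd
  have h1 := H949.LieDZ.defect_zero_of_pow hna hp.1 hL θ.2 hθ1 hi
  exact hθ (H949.SubInv.sum_eq_zero hp.1 (PJ P e J) (fun x => dvd_card_inf_J hs hj x) θ.2 h1)

end BN

end Cfsg.Agent.H685.R4
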