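import Mathlib
import Cfsg.Agent.H685.R4.Cons

/-!
# Subdegrees and constituents not trivial on a normal subgroup (helper685, S4554)

* `subdeg_N` : `g ∈ N \ H`, `q` a prime dividing neither `|H : H ∩ gHg⁻¹|` nor `|G : NH|`: there is a constituent `χ` of
  `1_H^G`, not trivial on `N`, of degree prime to `q`.
-/

set_option autoImplicit false
set_option linter.unusedSectionVars false

namespace Cfsg.Agent.H685.R4

open Cfsg Cfsg.Agent.H949.SubDeg
open scoped ComplexConjugate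

universe u

variable {G : Type u} [Group G] [Finite G]

/-- the value of the orbital of `g ∈ N` on a character trivial on `N` -/
theorem sum_dc [Fintype G] (N H : Subgroup G) [Fintype H] {g : G} (hgN : g ∈ N) {χ : G → ℂ} (hχ : IsCharacter G χ)
    (hN : ∀ n ∈ N, χ n = χ 1) [DecidablePred (Dc H g)] :
    (∑ d : G, (if Dc H g d then (1 : ℂ) else 0) * χ d) * (Nat.card H : ℂ) =
      (Nat.card {d : G // Dc H g d} : ℂ) * ∑ h : H, χ h := by
  classical
  have hH : (Nat.card H : ℂ) ≠ 0 := by exact_mod_cast Nat.card_pos.ne'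
  have hcl := Characters.Core.isCharacter_isClassFunction hχ
  -- double average
  have h1 : ∀ a b : H, ∑ d : G, (if Dc H g d then (1 : ℂ) else 0) * χ ((a : G) * d * b) =
      ∑ d : G, (if Dc H g d then (1 : ℂ) else 0) * χ d := by
    intro a b
    rw [← Equiv.sum_comp ((Equiv.mulLeft (a : G)).trans (Equiv.mulRight (b : G)))
      (fun d => (if Dc H g d then (1 : ℂ) else 0) * χ d)]
    refine Finset.sum_congr rfl fun d _ => ?_
    show (if Dc H g d then (1 : ℂ) else 0) * χ (a * d * b) = (if Dc H g (a * d * b) then (1 : ℂ) else 0) * χ (a * d * b)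
    simp only [dc_mul_right H g b.2, dc_mul_left H g a.2]
  have h2 : ∀ d : G, Dc H g d → ∑ a : H, ∑ b : H, χ ((a : G) * d * b) = (Nat.card H : ℂ) * ∑ h : H, χ h := by
    rintro d ⟨x, hx, y, hy, rfl⟩
    have h3 : ∀ a b : H, χ ((a : G) * (x * g * y) * b) = χ ((a : G) * x * y * b) := by
      intro a b
      have e1 : (a : G) * (x * g * y) * b = (((a : G) * x) * g * ((a : G) * x)⁻¹) * ((a : G) * x * y * b) := by group
      have e2 : χ (((a : G) * x) * g * ((a : G) * x)⁻¹) = χ 1 := by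
        rw [hcl g ((a : G) * x)]
        exact hN g hgN
      rw [e1, H686.CharKit.apply_mul_of_eq hχ e2]
    have h4 : ∀ a : H, ∑ b : H, χ ((a : G) * x * y * b) = ∑ h : H, χ h := by
      intro a
      rw [← Equiv.sum_comp (Equiv.mulLeft (a * ⟨x, hx⟩ * ⟨y, hy⟩ : H)) (fun h : H => χ h)]
      rfl
    rw [Finset.sum_congr rfl fun a _ => Finset.sum_congr rfl fun b _ => h3 a b, Finset.sum_congr rfl fun a _ => h4 a,
      Finset.sum_const, Finset.card_univ, nsmul_eq_mul, Nat.card_eq_fintype_card]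
  have h3 : ∑ a : H, ∑ b : H, ∑ d : G, (if Dc H g d then (1 : ℂ) else 0) * χ ((a : G) * d * b) =
      (Nat.card H : ℂ) * ((Nat.card H : ℂ) * ∑ d : G, (if Dc H g d then (1 : ℂ) else 0) * χ d) := by
    rw [Finset.sum_congr rfl fun a _ => Finset.sum_congr rfl fun b _ => h1 a b, Finset.sum_const, Finset.sum_const,
      Finset.card_univ, nsmul_eq_mul, nsmul_eq_mul, Nat.card_eq_fintype_card]
  have h4 : ∑ a : H, ∑ b : H, ∑ d : G, (if Dc H g d then (1 : ℂ) else 0) * χ ((a : G) * d * b) =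
      ∑ d : G, (if Dc H g d then (1 : ℂ) else 0) * ∑ a : H, ∑ b : H, χ ((a : G) * d * b) := by
    have h5 : ∀ a : H, ∑ b : H, ∑ d : G, (if Dc H g d then (1 : ℂ) else 0) * χ ((a : G) * d * b) =
        ∑ d : G, (if Dc H g d then (1 : ℂ) else 0) * ∑ b : H, χ ((a : G) * d * b) := by
      intro a
      rw [Finset.sum_comm]
      exact Finset.sum_congr rfl fun d _ => (Finset.mul_sum _ _ _).symm
    rw [Finset.sum_congr rfl fun a _ => h5 a, Finset.sum_comm]
    exact Finset.sum_congr rfl fun d _ => (Finset.mul_sum _ _ _).symm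
  have h5 : ∑ d : G, (if Dc H g d then (1 : ℂ) else 0) * ∑ a : H, ∑ b : H, χ ((a : G) * d * b) =
      (Nat.card {d : G // Dc H g d} : ℂ) * ((Nat.card H : ℂ) * ∑ h : H, χ h) := by
    have h6 : ∀ d : G, (if Dc H g d then (1 : ℂ) else 0) * ∑ a : H, ∑ b : H, χ ((a : G) * d * b) =
        (if Dc H g d then (1 : ℂ) else 0) * ((Nat.card H : ℂ) * ∑ h : H, χ h) := by
      intro d
      by_cases hd : Dc H g d
      · rw [h2 d hd]
      · rw [if_neg hd, zero_mul, zero_mul]
    rw [Finset.sum_congr rfl fun d _ => h6 d, ← Finset.sum_mul, Finset.sum_boole]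
    congr 2
    rw [Nat.card_eq_fintype_card, Fintype.card_subtype]
  have h6 := h3.symm.trans (h4.trans h5)
  apply mul_left_cancel₀ hH
  linear_combination h6

/-- the multiplicity of a character trivial on `N` -/
theorem mult_sup (N H : Subgroup G) [N.Normal] [Fintype H] [Fintype ↥(N ⊔ H)] {χ : IrrCharacter G}
    (hN : ∀ n ∈ N, (χ : G → ℂ) n = (χ : G → ℂ) 1) : mult (N ⊔ H) χ = mult H χ := by
  classical
  have hH : (Nat.card H : ℂ) ≠ 0 := by exact_mod_cast Nat.card_pos.ne'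
  have hK : (Nat.card ↥(N ⊔ H) : ℂ) ≠ 0 := by exact_mod_cast Nat.card_pos.ne'
  have h3 : ∑ k : ↥(N ⊔ H), ∑ h : H, (χ : G → ℂ) (k * h) = (Nat.card H : ℂ) * ∑ k : ↥(N ⊔ H), (χ : G → ℂ) k := by
    rw [Finset.sum_comm]
    have h4 : ∀ h : H, ∑ k : ↥(N ⊔ H), (χ : G → ℂ) (k * h) = ∑ k : ↥(N ⊔ H), (χ : G → ℂ) k := by
      intro h
      exact Equiv.sum_comp (Equiv.mulRight (⟨(h : G), (le_sup_right : H ≤ N ⊔ H) h.2⟩ : ↥(N ⊔ H)))
        (fun k : ↥(N ⊔ H) => (χ : G → ℂ) k)
    rw [Finset.sum_congr rfl fun h _ => h4 h, Finset.sum_const, Finset.card_univ, nsmul_eq_mul,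
      Nat.card_eq_fintype_card]
  have h4 : ∀ k : ↥(N ⊔ H), ∑ h : H, (χ : G → ℂ) (k * h) = ∑ h : H, (χ : G → ℂ) h := by
    intro k
    obtain ⟨m, hm, x, hx, hk⟩ := Subgroup.mem_sup_of_normal_left.1 k.2
    rw [← Equiv.sum_comp (Equiv.mulLeft (⟨x, hx⟩ : H)) (fun h : H => (χ : G → ℂ) h)]
    refine Finset.sum_congr rfl fun h _ => ?_
    rw [← hk, mul_assoc]
    exact H686.CharKit.apply_mul_of_eq (Characters.Core.isIrr_isCharacter χ.2) (hN m hm) _
  rw [Finset.sum_congr rfl fun k _ => h4 k, Finset.sum_const, Finset.card_univ, nsmul_eq_mul,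
    ← Nat.card_eq_fintype_card, mult_spec, mult_spec] at h3
  have h5 : (Nat.card H : ℂ) * (Nat.card ↥(N ⊔ H) : ℂ) * (mult (N ⊔ H) χ : ℂ) =
      (Nat.card H : ℂ) * (Nat.card ↥(N ⊔ H) : ℂ) * (mult H χ : ℂ) := by
    linear_combination -h3
  exact_mod_cast mul_left_cancel₀ (mul_ne_zero hH hK) h5

theorem mult_sup_zero (N H : Subgroup G) [N.Normal] [Fintype ↥(N ⊔ H)] {χ : IrrCharacter G}
    (hN : ∃ n ∈ N, (χ : G → ℂ) n ≠ (χ : G → ℂ) 1) : mult (N ⊔ H) χ = 0 := by
  classical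
  have := Fintype.ofFinite N
  by_contra h
  have h1 : Cst (N ⊔ H) (χ : G → ℂ) := by
    rw [cst_iff]
    intro h2
    exact h ((mult_eq_zero_iff _ χ).2 h2)
  have h2 := h1.mono (Characters.Core.isIrr_isCharacter χ.2) (le_sup_left : N ≤ N ⊔ H)
  rw [cst_iff] at h2
  apply h2
  have h3 := H612.Heredity.sum_coset_eq_zero N χ hN 1
  simpa using h3

open Classical in
/-- **Constituents not trivial on `N` of degree prime to `q`.** -/
theorem subdeg_N (N H : Subgroup G) [N.Normal] {g : G} (hgN : g ∈ N) (hgH : g ∉ H) {q : ℕ} (hq : q.Prime)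
    (hq1 : ¬ q ∣ (H.map (MulAut.conj g).toMonoidHom).relIndex H) (hq2 : ¬ q ∣ (N ⊔ H).index) :
    ∃ χ : IrrCharacter G, (∃ n ∈ N, (χ : G → ℂ) n ≠ (χ : G → ℂ) 1) ∧ Cst H (χ : G → ℂ) ∧
      ¬ q ∣ charDegree (χ : G → ℂ) := by
  have := Fintype.ofFinite G
  have := Fintype.ofFinite H
  have := Fintype.ofFinite ↥(N ⊔ H)
  have hfin : Finite (IrrCharacter G) := Characters.Core.finite_irr
  have : Fintype (IrrCharacter G) := Fintype.ofFinite _
  have hH : (Nat.card H : ℂ) ≠ 0 := by exact_mod_cast Nat.card_pos.ne'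
  obtain ⟨n, hn⟩ : ∃ n, n = (H.map (MulAut.conj g).toMonoidHom).relIndex H := ⟨_, rfl⟩
  have hcard : Nat.card {d : G // Dc H g d} = n * Nat.card H := by
    rw [hn]
    exact card_dc H g
  rw [← hn] at hq1
  by_contra hno
  push Not at hno
  have hsum : ∑ χ : IrrCharacter G, (χ : G → ℂ) 1 * hval H g χ = 0 := by
    unfold hval
    have h1 : ∀ χ : IrrCharacter G, (χ : G → ℂ) 1 * ((Nat.card H : ℂ)⁻¹ * ∑ d : G, (if Dc H g d then (1 : ℂ) else 0) * (χ : G → ℂ) d) =
        (Nat.card H : ℂ)⁻¹ * ∑ d : G, (if Dc H g d then (1 : ℂ) else 0) * ((χ : G → ℂ) 1 * (χ : G → ℂ) d) := by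
      intro χ
      rw [mul_left_comm, Finset.mul_sum]
      congr 1
      exact Finset.sum_congr rfl fun d _ => by ring
    rw [Finset.sum_congr rfl fun χ _ => h1 χ, ← Finset.mul_sum, Finset.sum_comm]
    have h2 : ∀ d : G, ∑ χ : IrrCharacter G, (if Dc H g d then (1 : ℂ) else 0) * ((χ : G → ℂ) 1 * (χ : G → ℂ) d) = 0 := by
      intro d
      rw [← Finset.mul_sum, Characters.Counting.sum_irr_one_mul]
      by_cases hd : d = 1
      · rw [hd, if_neg (not_dc_one H g hgH), zero_mul]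
      · rw [if_neg hd, mul_zero]
    rw [Finset.sum_congr rfl fun d _ => h2 d, Finset.sum_const_zero, mul_zero]
  -- each term
  have hterm : ∀ χ : IrrCharacter G, ∃ z : ℂ, IsIntegral ℤ z ∧ (χ : G → ℂ) 1 * hval H g χ =
      (n : ℂ) * ((charDegree (χ : G → ℂ) * mult (N ⊔ H) χ : ℕ) : ℂ) + (q : ℂ) * z := by
    intro χ
    by_cases h1 : ∃ x ∈ N, (χ : G → ℂ) x ≠ (χ : G → ℂ) 1
    · rw [mult_sup_zero N H h1]
      by_cases h2 : ∑ h : H, (χ : G → ℂ) h = 0
      · refine ⟨0, isIntegral_zero, ?_⟩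
        rw [hval_eq_zero H g (Characters.Core.isIrr_isCharacter χ.2) h2]
        simp
      · obtain ⟨k, hk⟩ := hno χ h1 ((cst_iff H _).2 h2)
        refine ⟨(k : ℂ) * hval H g χ, ?_, ?_⟩
        · have h3 : IsIntegral ℤ (k : ℂ) := by
            simpa using isIntegral_algebraMap (R := ℤ) (A := ℂ) (x := (k : ℤ))
          exact h3.mul (isIntegral_hval H g (Characters.Core.isIrr_isCharacter χ.2))
        · rw [H687.Irr.one_eq, hk]
          push_cast
          ring
    · push Not at h1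
      refine ⟨0, isIntegral_zero, ?_⟩
      rw [mult_sup N H h1, mul_zero, add_zero]
      have h2 := sum_dc N H hgN (Characters.Core.isIrr_isCharacter χ.2) h1
      rw [hcard, mult_spec] at h2
      unfold hval
      have h3 : ∑ d : G, (if Dc H g d then (1 : ℂ) else 0) * (χ : G → ℂ) d = (n : ℂ) * ((Nat.card H : ℂ) * mult H χ) := by
        apply mul_right_cancel₀ hH
        rw [h2]
        push_cast
        ring
      rw [h3, H687.Irr.one_eq]
      push_cast
      field_simp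
  choose z hz1 hz2 using hterm
  have h5 : (n : ℂ) * ((N ⊔ H).index : ℂ) + (q : ℂ) * ∑ χ, z χ = 0 := by
    rw [← hsum, Finset.sum_congr rfl fun χ _ => hz2 χ, Finset.sum_add_distrib, ← Finset.mul_sum, ← Finset.mul_sum,
      ← Nat.cast_sum, sum_deg_mult]
  have hnq : ¬ q ∣ n * (N ⊔ H).index := fun h => (hq.dvd_mul.1 h).elim hq1 hq2
  have h6 : IsCoprime ((n * (N ⊔ H).index : ℕ) : ℤ) (q : ℤ) := by
    rw [Int.isCoprime_iff_gcd_eq_one, Int.gcd_natCast_natCast]
    exact Nat.Coprime.symm ((Nat.Prime.coprime_iff_not_dvd hq).2 hnq)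
  obtain ⟨a, b, hab⟩ := h6
  have h7 : (a : ℂ) * ((n : ℂ) * ((N ⊔ H).index : ℂ)) + b * q = 1 := by
    have h8 : ((a * ((n * (N ⊔ H).index : ℕ) : ℤ) + b * (q : ℤ) : ℤ) : ℂ) = 1 := by rw [hab]; simp
    push_cast at h8
    exact h8
  have hai : IsIntegral ℤ (a : ℂ) := by simpa using isIntegral_algebraMap (R := ℤ) (A := ℂ) (x := a)
  have hbi : IsIntegral ℤ (b : ℂ) := by simpa using isIntegral_algebraMap (R := ℤ) (A := ℂ) (x := b)
  refine H687.not_isIntegral_inv hq.two_le (z := (a : ℂ) * (∑ χ, z χ) - b)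
    ((hai.mul (IsIntegral.sum _ fun χ _ => hz1 χ)).sub hbi) ?_
  linear_combination (a : ℂ) * h5 - h7

end Cfsg.Agent.H685.R4
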