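import Mathlib
import Cfsg.Agent.H685.R4.SubdegN
import Cfsg.Agent.H687.DCoset

/-!
# General position of a parabolic subgroup (helper685, S4554)

`J` is not supposed to be invariant under the diagram symmetries induced by `G`.

* `exists_mul_stb'` : `stb P_J = P_J (stb P_J ∩ stb B)`;
* `Dg` : every element of `stb B` preserves `J` or interchanges `J` and `K`;
* `dc_inv'` : double cosets of `stb P_J` closed under inversion;
* `exists_subdeg'` : the subdegree of `w₀`;
* `index_sup` : `|G : N stb P_J|` divides `2`;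
* `exists_theta` : constituents of the restriction to `N`;
* `deg_of_two` : the degree of the constituent for a 2-transitive action.
-/

set_option autoImplicit false
set_option linter.unusedSectionVars false

namespace Cfsg.Agent.H685.R4

open Cfsg Cfsg.Agent.LieExceptional.BNPairCore Cfsg.Agent.Tits.Core Cfsg.Agent.Tits.OfBN
open Cfsg.Agent.H612.BNCosets Cfsg.Agent.FixBN
open scoped ComplexConjugate

universe u

section BN

variable {G : Type u} [Group G] [Finite G] {N : Subgroup G} [N.Normal]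
  {P : Cfsg.BNPair N} {I : Type*} {M : CoxeterMatrix I} (e : I ≃ P.S) {p : ℕ} {U : Subgroup N}

/-- elements of `stb P_J` -/
theorem exists_mul_stb' [Fact p.Prime] (hs : Split P p U) {J : Set I} {x : G} (hx : x ∈ stb (PJ P e J)) :
    ∃ m ∈ PJ P e J, ∃ h ∈ stb P.B, h ∈ (stb (PJ P e J) : Subgroup G) ∧ x = (m : N) * h := by
  obtain ⟨m, hm⟩ := exists_mul_B hs x
  have hmJ : m ∈ PJ P e J := by
    have h1 : m⁻¹ ∈ PJ P e J := by
      refine Cfsg.Agent.S0313.mem_of_conj_borel_le P (PJ P e J) (B_le_PJ P e J) m⁻¹ fun b hb => ?_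
      rw [inv_inv]
      -- `m b m⁻¹ = x (h⁻¹ b h) x⁻¹`
      have h2 : cn ((m : G)⁻¹ * x)⁻¹ b ∈ P.B := (inv_mem hm b).2 hb
      have h3 := (hx (cn ((m : G)⁻¹ * x)⁻¹ b)).2 (B_le_PJ P e J h2)
      rw [← cn_mul] at h3
      have h4 : x * ((m : G)⁻¹ * x)⁻¹ = m := by group
      rw [h4, cn_of] at h3
      exact h3
    simpa using inv_mem h1
  have hmG : (m : G) ∈ (stb (PJ P e J) : Subgroup G) := (coe_mem_stb_PJ P e).2 hmJ
  exact ⟨m, hmJ, _, hm, mul_mem (inv_mem hmG) hx, by group⟩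

variable [hN : ((P.B ⊓ P.N).subgroupOf P.N).Normal] (cs : CoxeterSystem M (WP P))
  (hcs : ∀ i, cs.simple i = QuotientGroup.mk (⟨(e i : N), P.subset (e i).2⟩ : P.N))

include hcs

theorem sig_mul {x y : G} (hx : x ∈ stb P.B) (hy : y ∈ stb P.B) (i : I) :
    sig e cs hcs (mul_mem hx hy) i = sig e cs hcs hx (sig e cs hcs hy i) := by
  apply simple_inj e cs hcs
  rw [← fW_simple, ← fW_simple, ← fW_simple]
  obtain ⟨g, hg⟩ := TwOfBN.exists_wt (P := P) (cs.simple i)
  rw [← hg, TwOfBN.fW_wt (cn (x * y)) (mul_mem hx hy), TwOfBN.fW_wt (cn y) hy, TwOfBN.fW_wt (cn x) hx, cn_mul]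

/-- an element of `stb B` mapping `J` into `K` maps `P_J` into `P_K` -/
theorem cn_mem_PJ {x : G} (hx : x ∈ stb P.B) {J K : Set I} (h : ∀ j ∈ J, sig e cs hcs hx j ∈ K) {n : N}
    (hn : n ∈ PJ P e J) : cn x n ∈ PJ P e K := by
  rw [mem_PJ P e cs hcs] at hn ⊢
  rw [← TwOfBN.fW_wt (cn x) hx]
  obtain ⟨ω, hω, hw⟩ := Tits.Exchange.exists_word_of_mem_WJ cs hn
  rw [← hw, fW_wordProd e cs hcs hx]
  refine Tits.Exchange.wordProd_mem_WJ cs fun i hi => ?_
  obtain ⟨j, hj, rfl⟩ := List.mem_map.1 hi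
  exact h j (hω j hj)

/-- every element of `stb B` preserves `J` or interchanges `J` and `K` -/
def Dg (J K : Set I) : Prop := ∀ x (hx : x ∈ stb P.B), (∀ j ∈ J, sig e cs hcs (x := x) hx j ∈ J) ∨
  ((∀ j ∈ J, sig e cs hcs (x := x) hx j ∈ K) ∧ ∀ k ∈ K, sig e cs hcs (x := x) hx k ∈ J)

variable {J K : Set I} (hD : Dg (G := G) e cs hcs J K)

include hD in
/-- the product of two elements interchanging `J` and `K` -/
theorem sq_mem {x y : G} (hx : x ∈ stb P.B) (hy : y ∈ stb P.B) (h1 : ∀ j ∈ J, sig e cs hcs hy j ∈ K)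
    (h2 : ∀ k ∈ K, sig e cs hcs hx k ∈ J) : x * y ∈ (stb (PJ P e J) : Subgroup G) := by
  refine mem_stb_PJ e cs hcs (mul_mem hx hy) fun j hj => ?_
  rw [sig_mul e cs hcs hx hy]
  exact h2 _ (h1 j hj)

include hD in
/-- **Double cosets of `stb P_J` closed under inversion.** -/
theorem dc_inv' [Fact p.Prime] (hs : Split P p U)
    (hR1 : ∀ w : WP P, ∃ a ∈ WJ cs J, ∃ b ∈ WJ cs J, w⁻¹ = a * w * b)
    (hR2 : ∀ x (hx : x ∈ stb P.B), (∀ j ∈ J, sig e cs hcs (x := x) hx j ∈ K) →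
      (∀ k ∈ K, sig e cs hcs (x := x) hx k ∈ J) →
      ∀ w : WP P, ∃ a ∈ WJ cs J, ∃ b ∈ WJ cs K, TwOfBN.fW P (cn x) w⁻¹ = a * w * b)
    (g : G) : ∃ a ∈ (stb (PJ P e J) : Subgroup G), ∃ b ∈ (stb (PJ P e J) : Subgroup G), g⁻¹ = a * g * b := by
  obtain ⟨n, hy⟩ := exists_mul_B hs g
  obtain ⟨y, hyd⟩ : ∃ y, y = (n : G)⁻¹ * g := ⟨_, rfl⟩
  rw [← hyd] at hy
  have hg : g = n * y := by rw [hyd]; group
  have hinv : wt P n⁻¹ = (wt P n)⁻¹ := by
    obtain ⟨k, hk⟩ := exists_mem_C P n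
    rw [wt_of_mem P hk, ← QuotientGroup.mk_inv]
    exact wt_of_mem P (inv_mem_C hk)
  rcases hD y hy with hJ | ⟨hJK, hKJ⟩
  · have hyJ := mem_stb_PJ e cs hcs hy hJ
    obtain ⟨a, ha, b, hb, hab⟩ := hR1 (wt P n)
    rw [← hinv] at hab
    have h2 : DoubleCoset.setoid (PJ P e J : Set N) (PJ P e J : Set N) n n⁻¹ := by
      rw [setoid_iff P e cs hcs, DoubleCoset.rel_iff]
      exact ⟨a, ha, b, hb, hab⟩
    obtain ⟨c, hc, d, hd, hcd⟩ := DoubleCoset.rel_iff.1 h2
    have hc' : (c : G) ∈ (stb (PJ P e J) : Subgroup G) := (coe_mem_stb_PJ P e).2 hc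
    have hd' : (d : G) ∈ (stb (PJ P e J) : Subgroup G) := (coe_mem_stb_PJ P e).2 hd
    have h3 : (n : G)⁻¹ = c * n * d := by
      have h4 := congrArg (fun z : N => (z : G)) hcd
      simpa using h4
    refine ⟨y⁻¹ * c, mul_mem (inv_mem hyJ) hc', y⁻¹ * d, mul_mem (inv_mem hyJ) hd', ?_⟩
    rw [hg, mul_inv_rev, h3]
    group
  · obtain ⟨a, ha, b, hb, hab⟩ := hR2 y hy hJK hKJ (wt P n)
    rw [← hinv, TwOfBN.fW_wt (cn y) hy] at hab
    have h2 : DoubleCoset.setoid (PJ P e J : Set N) (PJ P e K : Set N) n (cn y n⁻¹) := by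
      rw [setoid_iff P e cs hcs, DoubleCoset.rel_iff]
      exact ⟨a, ha, b, hb, hab⟩
    obtain ⟨c, hc, d, hd, hcd⟩ := DoubleCoset.rel_iff.1 h2
    have hc' : (c : G) ∈ (stb (PJ P e J) : Subgroup G) := (coe_mem_stb_PJ P e).2 hc
    have hyy : y * y ∈ (stb (PJ P e J) : Subgroup G) := sq_mem e cs hcs hD hy hy hJK hKJ
    have hd1 : (cn y d : N) ∈ PJ P e J := cn_mem_PJ e cs hcs hy hKJ hd
    have hd2 : ((cn y d : N) : G) ∈ (stb (PJ P e J) : Subgroup G) := (coe_mem_stb_PJ P e).2 hd1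
    rw [cn_coe] at hd2
    have h3 : y * (n : G)⁻¹ * y⁻¹ = c * n * d := by
      have h4 := congrArg (fun z : N => (z : G)) hcd
      simpa [cn_coe, mul_assoc] using h4
    refine ⟨(y * y)⁻¹ * c, mul_mem (inv_mem hyy) hc', (y * y)⁻¹ * (y * d * y⁻¹) * (y * y),
      mul_mem (mul_mem (inv_mem hyy) hd2) hyy, ?_⟩
    have h4 : (n : G)⁻¹ = y⁻¹ * (c * n * d) * y := by rw [← h3]; group
    rw [hg, mul_inv_rev, h4]
    group

/-- **The subdegree of `w₀`.** -/
theorem exists_subdeg' [Fact p.Prime] (hs : Split P p U) (hne : J ≠ Set.univ)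
    (hop : ∀ a ∈ WJ cs J, w0 cs * a * w0 cs ∈ WJ cs J) :
    ∃ g ∈ N, g ∉ (stb (PJ P e J) : Subgroup G) ∧ ∀ q : ℕ, q.Prime → q ≠ p →
      ¬ q ∣ ((stb (PJ P e J) : Subgroup G).map (MulAut.conj g).toMonoidHom).relIndex (stb (PJ P e J)) := by
  classical
  have hfin : Finite (WP P) := inferInstance
  have hw2 := Tits.Exchange.w0_mul_self cs
  obtain ⟨n, hn⟩ := QuotientGroup.mk_surjective (w0 cs)
  have hwn : wt P ((n : P.N) : N) = w0 cs := by rw [wt_of_mem P (self_mem_C _), hn]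
  refine ⟨(((n : P.N) : N) : G), ((n : P.N) : N).2, ?_, ?_⟩
  · rw [coe_mem_stb_PJ, mem_PJ P e cs hcs, hwn]
    exact w0_notMem e cs hcs hne
  · intro q hq hqp hdvd
    set C : Subgroup G := (stb (PJ P e J) : Subgroup G).map (MulAut.conj (((n : P.N) : N) : G)).toMonoidHom with hC
    have hUle : U.map N.subtype ≤ (stb (PJ P e J) : Subgroup G) := by
      rintro _ ⟨u, hu, rfl⟩
      exact (coe_mem_stb_PJ P e).2 (B_le_PJ P e J (hs.le hu))
    have key : ∀ h ∈ (stb (PJ P e J) : Subgroup G), ∃ u ∈ U, ∃ k ∈ (stb (PJ P e J) : Subgroup G),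
        h * (((n : P.N) : N) : G) = (u : N) * (((n : P.N) : N) : G) * k := by
      intro h hh
      obtain ⟨m, hm, x, hx, -, rfl⟩ := exists_mul_stb' e hs hh
      -- the weight of the conjugate
      have h1 : wt P (cn x (n : P.N)) = w0 cs := by
        rw [← TwOfBN.fW_wt (cn x) hx, hwn, fW_w0 e cs hcs hx]
      obtain ⟨a, ha, h2⟩ := wt_mul_PJ_left P e cs hcs hm (cn x (n : P.N))
      obtain ⟨b, hb, h4⟩ := wt_mul_PJ_right P e cs hcs (inv_mem hm) (m * cn x (n : P.N))
      rw [h2, h1] at h4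
      have h5 : a * w0 cs * b = w0 cs * ((w0 cs * a * w0 cs) * b) := by
        calc a * w0 cs * b = (w0 cs * w0 cs) * a * w0 cs * b := by rw [hw2, one_mul]
          _ = w0 cs * ((w0 cs * a * w0 cs) * b) := by group
      rw [h5] at h4
      obtain ⟨y, hyN, hy, hyb⟩ := (mem_WJ_iff P e cs hcs).1 (mul_mem (hop a ha) hb)
      have h6 : wt P (((n : P.N) : N) * y) = w0 cs * (w0 cs * a * w0 cs * b) := by
        rw [hyb, ← hn, ← QuotientGroup.mk_mul]
        exact wt_of_mem P (n := n * ⟨y, hyN⟩) (self_mem_C _)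
      obtain ⟨u, hu, c, hc, h7⟩ := exists_mul hs (h6.trans h4.symm)
      have hyJ : y ∈ PJ P e J := (le_sup_right : Subgroup.closure _ ≤ PJ P e J) hy
      refine ⟨u, hu, (y * c : N) * (m * x), ?_, ?_⟩
      · exact mul_mem ((coe_mem_stb_PJ P e).2 (mul_mem hyJ (B_le_PJ P e J hc))) hh
      · have h8 := congrArg (fun z : N => (z : G)) h7
        have h9 : (m : G) * (x * n * x⁻¹) * (m : G)⁻¹ = (u : G) * (n * y) * c := by
          simpa [cn_coe, mul_assoc] using h8
        calc (m : G) * x * n = ((m : G) * (x * n * x⁻¹) * (m : G)⁻¹) * (m * x) := by group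
          _ = (u : G) * (n * y) * c * (m * x) := by rw [h9]
          _ = u * n * ((y * c : N) * (m * x)) := by
            rw [Subgroup.coe_mul]
            group
    have h1 := H687.relIndex_of_mul (A := (stb (PJ P e J) : Subgroup G)) (B := U.map N.subtype) (C := C) hUle
      (fun h hh => by
        obtain ⟨u, hu, k, hk, h1⟩ := key h⁻¹ (inv_mem hh)
        refine ⟨(((n : P.N) : N) : G) * k⁻¹ * (((n : P.N) : N) : G)⁻¹, ⟨k⁻¹, inv_mem hk, rfl⟩, ((u⁻¹ : N) : G),
          ⟨u⁻¹, inv_mem hu, rfl⟩, ?_⟩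
        have h2 : h⁻¹ = u * n * k * (((n : P.N) : N) : G)⁻¹ := by rw [← h1]; group
        rw [← inv_inv h, h2, Subgroup.coe_inv]
        group)
    rw [h1] at hdvd
    have hUp : IsPGroup p (U.map N.subtype) := hs.isP.map _
    obtain ⟨k, hk⟩ := hUp.index (C.subgroupOf (U.map N.subtype))
    rw [Subgroup.relIndex, hk] at hdvd
    exact hqp ((Nat.prime_dvd_prime_iff_eq hq Fact.out).1 (hq.dvd_of_dvd_pow hdvd))

include hD in
/-- **The index of `N · stb P_J`.** -/
theorem index_sup [Fact p.Prime] (hs : Split P p U) : (N ⊔ (stb (PJ P e J) : Subgroup G)).index ∣ 2 := by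
  classical
  obtain ⟨L, hL⟩ : ∃ L, L = N ⊔ (stb (PJ P e J) : Subgroup G) := ⟨_, rfl⟩
  have hNL : ∀ n : N, (n : G) ∈ L := fun n => by rw [hL]; exact (le_sup_left : N ≤ _) n.2
  have hSL : ∀ x ∈ (stb (PJ P e J) : Subgroup G), x ∈ L := fun x hx => by
    rw [hL]; exact (le_sup_right : (stb (PJ P e J) : Subgroup G) ≤ _) hx
  rw [← hL]
  have hdec : ∀ x : G, x ∈ L ∨ ∃ (m : N) (y : G) (hy : y ∈ stb P.B), x = m * y ∧
      (∀ j ∈ J, sig e cs hcs hy j ∈ K) ∧ ∀ k ∈ K, sig e cs hcs hy k ∈ J := by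
    intro x
    obtain ⟨m, hm⟩ := exists_mul_B hs x
    rcases hD _ hm with h | ⟨h1, h2⟩
    · left
      have h3 := mul_mem (hNL m) (hSL _ (mem_stb_PJ e cs hcs hm h))
      rwa [mul_inv_cancel_left] at h3
    · exact Or.inr ⟨m, _, hm, by group, h1, h2⟩
  have hprod : ∀ x y : G, x ∉ L → y ∉ L → x * y ∈ L := by
    intro x y hx hy
    rcases hdec x with h | ⟨m1, y1, hy1, rfl, h1, h2⟩
    · exact absurd h hx
    rcases hdec y with h | ⟨m2, y2, hy2, rfl, h3, h4⟩
    · exact absurd h hy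
    have h5 := mul_mem (mul_mem (hNL m1) (hNL (cn y1 m2))) (hSL _ (sq_mem e cs hcs hD hy1 hy2 h3 h2))
    rw [cn_coe] at h5
    have h6 : (m1 : G) * y1 * (m2 * y2) = m1 * (y1 * m2 * y1⁻¹) * (y1 * y2) := by group
    rwa [h6]
  by_cases htop : L = ⊤
  · rw [htop, Subgroup.index_top]
    exact one_dvd 2
  · obtain ⟨a, ha⟩ : ∃ a, a ∉ L := by
      by_contra h
      push Not at h
      exact htop (Subgroup.eq_top_iff' L |>.2 h)
    have h1 : L.index = 2 := by
      rw [Subgroup.index_eq_two_iff]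
      refine ⟨a, fun b => ?_⟩
      by_cases hb : b ∈ L
      · right
        refine ⟨hb, fun h => ha ?_⟩
        have := mul_mem (inv_mem hb) h
        rwa [inv_mul_cancel_left] at this
      · exact Or.inl ⟨hprod b a hb ha, hb⟩
    rw [h1]

end BN

section Theta

variable {G : Type u} [Group G] [Finite G] {N : Subgroup G} [N.Normal]
  {P : Cfsg.BNPair N} {I : Type*} {e : I ≃ P.S}

/-- a constituent of the restriction to `N` -/
theorem exists_theta {J : Set I} {χ : IrrCharacter G} (hχ : ∃ n ∈ N, (χ : G → ℂ) n ≠ (χ : G → ℂ) 1)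
    (hc : Cst (PG P e J) (χ : G → ℂ)) :
    ∃ θ : IrrCharacter N, θ ≠ triv N ∧ Cst (PJ P e J) (θ : N → ℂ) ∧
      charDegree (θ : N → ℂ) ∣ charDegree (χ : G → ℂ) := by
  classical
  have := Fintype.ofFinite G
  have := Fintype.ofFinite N
  have hfi : Finite (IrrCharacter N) := Characters.Core.finite_irr
  have := Fintype.ofFinite (IrrCharacter N)
  have := Fintype.ofFinite (PJ P e J)
  have := Fintype.ofFinite (PG P e J)
  rw [cst_iff] at hc
  have hres := Characters.Clifford.isCharacter_restrict N (Characters.Core.isIrr_isCharacter χ.2)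
  obtain ⟨a, ha⟩ := Characters.Core.exists_nat_comb hres
  obtain ⟨θ, hθa, hθ⟩ : ∃ θ : IrrCharacter N, a θ ≠ 0 ∧ ∑ x : PJ P e J, (θ : N → ℂ) x ≠ 0 := by
    by_contra hcon
    push Not at hcon
    apply hc
    have h1 : ∑ x : PG P e J, (χ : G → ℂ) x = ∑ x : PJ P e J, (χ : G → ℂ) ((x : N) : G) := by
      symm
      let E : PJ P e J ≃ PG P e J := ((PJ P e J).equivMapOfInjective N.subtype N.subtype_injective).toEquiv
      exact Fintype.sum_equiv E
        (fun x : PJ P e J => (χ : G → ℂ) ((x : N) : G)) (fun x : PG P e J => (χ : G → ℂ) x) (fun x => rfl)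
    have h2 : ∀ x : N, (χ : G → ℂ) x = ∑ θ : IrrCharacter N, (a θ : ℂ) * (θ : N → ℂ) x := by
      intro x
      have h3 := congrFun ha x
      rw [H687.comb_apply] at h3
      exact h3
    have h4 : ∀ x : PJ P e J, (χ : G → ℂ) ((x : N) : G) = ∑ θ : IrrCharacter N, (a θ : ℂ) * (θ : N → ℂ) x :=
      fun x => h2 x
    rw [h1, Finset.sum_congr rfl fun x _ => h4 x, Finset.sum_comm]
    refine Finset.sum_eq_zero fun θ _ => ?_
    rw [← Finset.mul_sum]
    by_cases h3 : a θ = 0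
    · rw [h3, Nat.cast_zero, zero_mul]
    · rw [hcon θ h3, mul_zero]
  have hin : classInner (fun n : N => (χ : G → ℂ) n) (θ : N → ℂ) ≠ 0 := by
    rw [ha, Characters.Core.classInner_sum_nsmul_irr]
    exact_mod_cast hθa
  refine ⟨θ, ?_, (cst_iff _ _).2 hθ, H612.Heredity.degree_dvd N χ θ hin⟩
  intro h1
  have h2 := H612.Heredity.sum_coset_eq_zero N χ hχ 1
  simp only [mul_one] at h2
  apply hin
  rw [h1, Characters.Core.classInner_def]
  have h3 : ∀ n : N, (χ : G → ℂ) n * conj (((triv N : IrrCharacter N) : N → ℂ) n) = (χ : G → ℂ) n := by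
    intro n
    show (χ : G → ℂ) n * conj ((1 : N → ℂ) n) = _
    simp
  rw [Finset.sum_congr rfl fun n _ => h3 n, h2, mul_zero]

end Theta

section TwoTrans

variable {N : Type u} [Group N] [Finite N]

/-- **The degree for a 2-transitive action.** -/
theorem deg_of_two (H : Subgroup N) (g : N) (h2 : ∀ y, y ∈ H ∨ ∃ a ∈ H, ∃ b ∈ H, y = a * g * b) {θ : IrrCharacter N}
    (hθ : θ ≠ triv N) (hc : Cst H (θ : N → ℂ)) : charDegree (θ : N → ℂ) + 1 = H.index := by
  classical
  have := Fintype.ofFinite N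
  have hfi : Finite (IrrCharacter N) := Characters.Core.finite_irr
  have := Fintype.ofFinite (IrrCharacter N)
  have := Fintype.ofFinite H
  have hH : (Nat.card H : ℂ) ≠ 0 := by exact_mod_cast Nat.card_pos.ne'
  have hch := CharactersDeep.IndFun.isCharacter_indFun H (Characters.Core.isCharacter_one (G := H))
  -- the multiplicities
  have hm : ∀ χ : IrrCharacter N, classInner (indFun H (1 : H → ℂ)) (χ : N → ℂ) = (mult H χ : ℂ) := by
    intro χ
    rw [CharactersDeep.IndFun.classInner_indFun H 1 (χ : N → ℂ) (Characters.Core.isIrr_isClassFunction χ.2),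
      Characters.Core.classInner_def]
    simp only [Pi.one_apply, one_mul]
    rw [← map_sum, mult_spec, map_mul, map_natCast, map_natCast, inv_mul_cancel_left₀ hH]
  obtain ⟨a, ha⟩ := Characters.Core.exists_nat_comb hch
  have ham : ∀ χ, a χ = mult H χ := by
    intro χ
    have h1 := hm χ
    rw [ha, Characters.Core.classInner_sum_nsmul_irr] at h1
    exact_mod_cast h1
  have hnorm : classInner (indFun H (1 : H → ℂ)) (indFun H (1 : H → ℂ)) = ((∑ χ : IrrCharacter N, mult H χ * mult H χ : ℕ) : ℂ) := by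
    have h1 := Characters.Core.classInner_sum_smul_sum_smul (G := N) (fun ψ => (a ψ : ℂ)) (fun ψ => (a ψ : ℂ))
    simp only [Nat.cast_smul_eq_nsmul] at h1
    rw [← ha] at h1
    rw [h1]
    push_cast
    refine Finset.sum_congr rfl fun χ _ => ?_
    rw [ham]
    simp
  have hle : (∑ χ : IrrCharacter N, mult H χ * mult H χ : ℕ) ≤ Fintype.card (Fin 2) := by
    refine H687.norm_le H (1 : H →* ℂˣ) (![1, g] : Fin 2 → N) (fun y _ => ?_) ?_
    · rcases h2 y with h | ⟨a, ha, b, hb, h⟩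
      · exact ⟨0, y, h, 1, one_mem _, by simp⟩
      · exact ⟨1, a, ha, b, hb, by simpa using h⟩
    · have h1 : (fun t : H => ((1 : H →* ℂˣ) t : ℂ)) = (1 : H → ℂ) := by
        funext t
        simp
      rw [h1, hnorm]
  rw [Fintype.card_fin] at hle
  have hθm : mult H θ ≠ 0 := by
    intro h
    rw [cst_iff] at hc
    exact hc ((mult_eq_zero_iff H θ).1 h)
  have h1 : ∀ χ, χ ≠ triv N → χ ≠ θ → mult H χ = 0 := by
    intro χ h3 h4
    by_contra h5
    have h6 : mult H (triv N) * mult H (triv N) + (mult H θ * mult H θ + mult H χ * mult H χ) ≤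
        ∑ χ : IrrCharacter N, mult H χ * mult H χ := by
      rw [← Finset.add_sum_erase _ _ (Finset.mem_univ (triv N)),
        ← Finset.add_sum_erase _ _ (Finset.mem_erase.2 ⟨hθ, Finset.mem_univ θ⟩)]
      have h7 := Finset.single_le_sum (f := fun χ => mult H χ * mult H χ)
        (s := (Finset.univ.erase (triv N)).erase θ) (fun _ _ => Nat.zero_le _)
        (Finset.mem_erase.2 ⟨h4, Finset.mem_erase.2 ⟨h3, Finset.mem_univ χ⟩⟩)
      omega
    rw [mult_triv] at h6
    have h7 : 1 ≤ mult H θ * mult H θ := Nat.mul_pos (Nat.pos_of_ne_zero hθm) (Nat.pos_of_ne_zero hθm)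
    have h8 : 1 ≤ mult H χ * mult H χ := Nat.mul_pos (Nat.pos_of_ne_zero h5) (Nat.pos_of_ne_zero h5)
    omega
  have h3 : mult H θ = 1 := by
    have h6 : mult H (triv N) * mult H (triv N) + mult H θ * mult H θ ≤
        ∑ χ : IrrCharacter N, mult H χ * mult H χ := by
      rw [← Finset.add_sum_erase _ _ (Finset.mem_univ (triv N)),
        ← Finset.add_sum_erase _ _ (Finset.mem_erase.2 ⟨hθ, Finset.mem_univ θ⟩)]
      omega
    rw [mult_triv] at h6
    have h7 : mult H θ * mult H θ ≤ 1 := by omega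
    rcases Nat.lt_or_ge (mult H θ) 2 with h8 | h8
    · omega
    · have := Nat.mul_le_mul h8 h8
      omega
  have h4 := sum_deg_mult H
  rw [← Finset.add_sum_erase _ _ (Finset.mem_univ (triv N)),
    ← Finset.add_sum_erase _ _ (Finset.mem_erase.2 ⟨hθ, Finset.mem_univ θ⟩),
    Finset.sum_eq_zero (s := (Finset.univ.erase (triv N)).erase θ) (fun χ hχ => by
      rw [h1 χ (Finset.ne_of_mem_erase (Finset.mem_of_mem_erase hχ)) (Finset.ne_of_mem_erase hχ), mul_zero]),
    mult_triv, h3, deg_triv] at h4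
  omega

end TwoTrans

end Cfsg.Agent.H685.R4
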