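import Mathlib
import Cfsg.Agent.H685.R4.Two
import Cfsg.Agent.H619.R4.LOne

/-!
# S4554, groups of Lie type of characteristic two: the criterion (helper685)

`r3_of_two` : three different degrees of real irreducible characters of `G`, not trivial on `N`.
-/

set_option autoImplicit false
set_option linter.unusedSectionVars false

namespace Cfsg.Agent.H685.R4

open Cfsg Cfsg.Agent.LieExceptional.BNPairCore Cfsg.Agent.Tits.Core Cfsg.Agent.Tits.OfBN
open Cfsg.Agent.H612.BNCosets Cfsg.Agent.FixBN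
open Cfsg.Agent.H619.R4 (RD R3)

universe u

variable {G : Type u} [Group G] [Finite G] {N : Subgroup G} [N.Normal]
  {P : Cfsg.BNPair N} {I : Type*} {M : CoxeterMatrix I} (e : I ≃ P.S) {U : Subgroup N}

/-- three degrees: the even case -/
theorem r3_even {d₁ a d₂ : ℕ} (h1 : Odd d₁) (hd1 : RD G N d₁) (ha : 0 < a) (hst : RD G N (2 ^ a)) (h2 : Even d₂)
    (hd2 : RD G N d₂) (hne : ∀ k, d₂ ≠ 2 ^ k) : R3 G N := by
  refine ⟨d₁, 2 ^ a, d₂, ?_, ?_, fun h => hne a h.symm, hd1, hst, hd2⟩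
  · intro h
    rw [h] at h1
    exact (Nat.not_odd_iff_even.2 ((even_two).pow_of_ne_zero ha.ne')) h1
  · intro h
    rw [h] at h1
    exact (Nat.not_odd_iff_even.2 h2) h1

/-- three degrees: the odd case -/
theorem r3_odd {d₁ a d₂ : ℕ} (h1 : Odd d₁) (hd1 : RD G N d₁) (ha : 0 < a) (hst : RD G N (2 ^ a)) (h2 : Odd d₂)
    (hd2 : RD G N d₂) (hne : d₁ ≠ d₂) : R3 G N := by
  have h3 : ¬ Odd (2 ^ a) := Nat.not_odd_iff_even.2 ((even_two).pow_of_ne_zero ha.ne')
  refine ⟨d₁, 2 ^ a, d₂, ?_, hne, ?_, hd1, hst, hd2⟩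
  · intro h
    rw [h] at h1
    exact h3 h1
  · intro h
    rw [← h] at h2
    exact h3 h2

/-- the index of a parabolic subgroup is odd -/
theorem odd_index [Fact (Nat.Prime 2)] (hs : Split P 2 U) (J : Set I) : Odd (PJ P e J).index := by
  obtain ⟨Q, hQ⟩ := H612.CharTwo.exists_sylow hs
  rw [← Nat.not_even_iff_odd, even_iff_two_dvd]
  intro h
  have h1 : (PJ P e J).index ∣ U.index := Subgroup.index_dvd_of_le (hs.le.trans (B_le_PJ P e J))
  have h2 := Q.not_dvd_index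
  rw [hQ] at h2
  exact h2 (h.trans h1)

variable [hN : ((P.B ⊓ P.N).subgroupOf P.N).Normal] (cs : CoxeterSystem M (WP P))
  (hcs : ∀ i, cs.simple i = QuotientGroup.mk (⟨(e i : N), P.subset (e i).2⟩ : P.N))

include hcs

/-- **The criterion in characteristic two.** -/
theorem r3_of_two [IsSimpleGroup N] (hna : ∃ a b : N, a * b ≠ b * a) (hL : IsLieTypeChar 2 N) (hs : Split P 2 U)
    {J K : Set I} {j : I} (hj : j ∈ J) (hne : J ≠ Set.univ) (hD : Dg (G := G) e cs hcs J K)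
    (hR1 : ∀ w : WP P, ∃ a ∈ WJ cs J, ∃ b ∈ WJ cs J, w⁻¹ = a * w * b)
    (hR2 : ∀ x (hx : x ∈ (stb P.B : Subgroup G)), (∀ j ∈ J, sig e cs hcs (x := x) hx j ∈ K) →
      (∀ k ∈ K, sig e cs hcs (x := x) hx k ∈ J) →
      ∀ w : WP P, ∃ a ∈ WJ cs J, ∃ b ∈ WJ cs K, TwOfBN.fW P (cn x) w⁻¹ = a * w * b)
    (hcase : (∀ a ∈ WJ cs J, w0 cs * a * w0 cs ∈ WJ cs J) ∨
      ∃ g : N, ∀ y : N, y ∈ PJ P e J ∨ ∃ a ∈ PJ P e J, ∃ b ∈ PJ P e J, y = a * g * b) : R3 G N := by
  classical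
  have hp2 : Fact (Nat.Prime 2) := ⟨Nat.prime_two⟩
  have hna' : ¬ IsMulCommutative N := by
    intro h
    obtain ⟨a, b, hab⟩ := hna
    exact hab (mul_comm' a b)
  -- the order is even
  have hU : 2 ∣ Nat.card N := by
    obtain ⟨V, hV⟩ := hs.node (e j) (e j).2
    obtain ⟨u, hu, huV⟩ := hV.ne
    obtain ⟨k, hk⟩ := hs.isP ⟨u, hu⟩
    have hu1 : u ≠ 1 := fun e => huV (by rw [e]; exact one_mem _)
    have hk' : u ^ 2 ^ k = 1 := by
      have := congrArg Subtype.val hk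
      simpa using this
    obtain ⟨i, -, hi⟩ := (Nat.dvd_prime_pow Nat.prime_two).1 (orderOf_dvd_of_pow_eq_one hk')
    have hi0 : i ≠ 0 := by
      rintro rfl
      rw [pow_zero, orderOf_eq_one_iff] at hi
      exact hu1 hi
    refine dvd_trans ?_ (orderOf_dvd_natCard u)
    rw [hi]
    exact dvd_pow_self 2 hi0
  have hSt := rd_steinberg N (⟨P, U, ⟨_, (e j).2⟩, hs⟩ : HasSplit 2 N) hU
  have ha : 0 < (Nat.card N).factorization 2 := Nat.prime_two.factorization_pos_of_dvd Nat.card_pos.ne' hU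
  obtain ⟨d₁, hd1, hrd1⟩ := H619.R4.real_odd N hna' hU
  -- reality
  obtain ⟨H, hH⟩ : ∃ H, H = (stb (PJ P e J) : Subgroup G) := ⟨_, rfl⟩
  have hreal : ∀ χ : IrrCharacter G, Cst H (χ : G → ℂ) → ∀ g, ((χ : G → ℂ) g).im = 0 := by
    intro χ hχ
    have := Fintype.ofFinite H
    rw [cst_iff] at hχ
    refine im_eq_zero χ.2 (real_of_dc H χ.2 hχ fun g => ?_)
    rw [hH]
    exact dc_inv' e cs hcs hD hs hR1 hR2 g
  have hnp : ∀ χ : IrrCharacter G, (∃ n ∈ N, (χ : G → ℂ) n ≠ (χ : G → ℂ) 1) → Cst H (χ : G → ℂ) →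
      ∀ k, charDegree (χ : G → ℂ) ≠ 2 ^ k := by
    intro χ h1 h2 k
    refine not_pow (e := e) hna hL hs hj h1 ?_ k
    rw [hH] at h2
    exact h2.mono (Characters.Core.isIrr_isCharacter χ.2) (PG_le P e J)
  have heven : ∀ χ : IrrCharacter G, (∃ n ∈ N, (χ : G → ℂ) n ≠ (χ : G → ℂ) 1) → Cst H (χ : G → ℂ) →
      Even (charDegree (χ : G → ℂ)) → R3 G N := fun χ h1 h2 h3 =>
    r3_even hd1 hrd1 ha hSt h3 ⟨χ, hreal χ h2, h1, rfl⟩ (hnp χ h1 h2)
  have hidx := index_sup e cs hcs hD hs (K := K)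
  rw [← hH] at hidx
  have hidx' : ∀ q : ℕ, q.Prime → q ≠ 2 → ¬ q ∣ (N ⊔ H).index := by
    intro q hq hq2 h
    exact hq2 ((Nat.prime_dvd_prime_iff_eq hq Nat.prime_two).1 (h.trans hidx))
  rcases hcase with hop | ⟨g, hg⟩
  · obtain ⟨g, hgN, hgH, hsub⟩ := exists_subdeg' (G := G) e cs hcs hs hne hop
    rw [← hH] at hgH hsub
    obtain ⟨χ, h1, h2, -⟩ := subdeg_N N H hgN hgH Nat.prime_three (hsub 3 Nat.prime_three (by norm_num))
      (hidx' 3 Nat.prime_three (by norm_num))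
    rcases Nat.even_or_odd (charDegree (χ : G → ℂ)) with h3 | h3
    · exact heven χ h1 h2 h3
    · -- an odd prime divisor
      have h4 : charDegree (χ : G → ℂ) ≠ 1 := by
        have := hnp χ h1 h2 0
        rwa [pow_zero] at this
      obtain ⟨q, hq, hqd⟩ := Nat.exists_prime_and_dvd h4
      have hq2 : q ≠ 2 := by
        rintro rfl
        exact (Nat.not_even_iff_odd.2 h3) (even_iff_two_dvd.2 hqd)
      obtain ⟨ψ, h5, h6, h7⟩ := subdeg_N N H hgN hgH hq (hsub q hq hq2) (hidx' q hq hq2)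
      rcases Nat.even_or_odd (charDegree (ψ : G → ℂ)) with h8 | h8
      · exact heven ψ h5 h6 h8
      · refine r3_odd h3 ⟨χ, hreal χ h2, h1, rfl⟩ ha hSt h8 ⟨ψ, hreal ψ h6, h5, rfl⟩ ?_
        intro h9
        rw [h9] at hqd
        exact h7 hqd
  · -- 2-transitive
    have hgH : (g : G) ∉ H := by
      intro h
      rw [hH, coe_mem_stb_PJ] at h
      apply w0_notMem e cs hcs hne
      obtain ⟨n, hn⟩ := wt_surjective P (w0 cs)
      rw [← hn, ← mem_PJ P e cs hcs]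
      rcases hg n with h1 | ⟨a, ha, b, hb, h1⟩
      · exact h1
      · rw [h1]
        exact mul_mem (mul_mem ha h) hb
    obtain ⟨q, hqle, hq⟩ := Nat.exists_infinite_primes ((H.map (MulAut.conj (g : G)).toMonoidHom).relIndex H + 3)
    have hpos : 0 < (H.map (MulAut.conj (g : G)).toMonoidHom).relIndex H :=
      Nat.pos_of_ne_zero Subgroup.FiniteIndex.index_ne_zero
    obtain ⟨χ, h1, h2, -⟩ := subdeg_N N H g.2 hgH hq (fun h => by
      have := Nat.le_of_dvd hpos h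
      omega) (hidx' q hq (by omega))
    have h3 : Cst (PG P e J) (χ : G → ℂ) := by
      rw [hH] at h2
      exact h2.mono (Characters.Core.isIrr_isCharacter χ.2) (PG_le P e J)
    obtain ⟨θ, hθ, hθc, hθd⟩ := exists_theta h1 h3
    have h4 := deg_of_two (PJ P e J) g hg hθ hθc
    have h5 := odd_index e hs J
    rw [← h4] at h5
    have h6 : Even (charDegree (θ : N → ℂ)) := by
      rw [Nat.odd_add_one, Nat.not_odd_iff_even] at h5
      exact h5
    exact heven χ h1 h2 (even_iff_two_dvd.2 ((even_iff_two_dvd.1 h6).trans hθd))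

end Cfsg.Agent.H685.R4
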