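import Mathlib
import Cfsg.Agent.H685.R4.CharTwo
import Cfsg.Agent.H685.R4.WInv
import Cfsg.Agent.Mrg.Omega.ML.Ex.Typ.List

/-!
# S4554, groups of Lie type of characteristic two: the criteria for types (helper685)

* `r3_stable` : `J` invariant under the symmetries of the Coxeter matrix;
* `r3_swap` : every symmetry preserves `J` or interchanges `J` and `K`.
-/

set_option autoImplicit false
set_option linter.unusedSectionVars false

namespace Cfsg.Agent.H685.R4

open Cfsg Cfsg.Agent.LieExceptional.BNPairCore Cfsg.Agent.Tits.Core Cfsg.Agent.Tits.OfBN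
open Cfsg.Agent.H612.BNCosets Cfsg.Agent.FixBN
open Cfsg.Agent.H619.R4 (RD R3 Row)
open Cfsg.Agent.Omega.ML.Ex.Typ (HasSplitT)

universe u

variable {G : Type u} [Group G] [Finite G] {N : Subgroup G} [N.Normal] {I : Type*} {M : CoxeterMatrix I}

/-- **The criterion with an invariant `J`.** -/
theorem r3_stable [IsSimpleGroup N] (hna : ∃ a b : N, a * b ≠ b * a) (hL : IsLieTypeChar 2 N) (h : HasSplitT 2 M N)
    {J : Set I} {j : I} (hj : j ∈ J) (hne : J ≠ Set.univ)
    (hJ : ∀ σ : Equiv.Perm I, (∀ i j, M (σ i) (σ j) = M i j) → σ '' J = J)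
    (hR : ∀ {W : Type u} [Group W] [Finite W] (cs : CoxeterSystem M W) (w : W),
      ∃ a ∈ WJ cs J, ∃ b ∈ WJ cs J, w⁻¹ = a * w * b) : R3 G N := by
  obtain ⟨P, U, e, hs, hN, cs, hcs⟩ := h
  refine r3_of_two (K := ∅) e cs hcs hna hL hs hj hne ?_ (fun w => hR cs w) ?_ (Or.inl ?_)
  · intro x hx
    exact Or.inl (fun j hj => stable_of_symm e cs hcs hJ hx j hj)
  · intro x hx h1
    exact absurd (h1 j hj) (Set.notMem_empty _)
  · intro a ha
    have h1 := Tits.Exchange.w0_conj_mem_WJ cs ha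
    rwa [op_of_symm e cs hcs hJ] at h1

/-- `w₀` and the parabolic subgroup -/
theorem hop_of_op {W : Type*} [Group W] [Finite W] [Finite I] (cs : CoxeterSystem M W) {J : Set I}
    (hop : ∀ i ∈ J, op cs i ∈ J) {a : W} (ha : a ∈ WJ cs J) : w0 cs * a * w0 cs ∈ WJ cs J := by
  have h1 := Tits.Exchange.w0_conj_mem_WJ cs ha
  refine Tits.Exchange.WJ_mono cs ?_ h1
  rintro _ ⟨i, hi, rfl⟩
  exact hop i hi

/-- **The criterion with `J` and `K` interchanged.** -/
theorem r3_swap [IsSimpleGroup N] (hna : ∃ a b : N, a * b ≠ b * a) (hL : IsLieTypeChar 2 N) (h : HasSplitT 2 M N)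
    {J K : Set I} {j : I} (hj : j ∈ J) (hne : J ≠ Set.univ)
    (hJ : ∀ σ : Equiv.Perm I, (∀ i j, M (σ i) (σ j) = M i j) → σ '' J = J ∨ σ '' J = K ∧ σ '' K = J)
    (hR1 : ∀ {W : Type u} [Group W] [Finite W] (cs : CoxeterSystem M W) (w : W),
      ∃ a ∈ WJ cs J, ∃ b ∈ WJ cs J, w⁻¹ = a * w * b)
    (hR2 : ∀ {W : Type u} [Group W] [Finite W] (cs : CoxeterSystem M W) (σ : Equiv.Perm I)
      (_ : ∀ i j, M (σ i) (σ j) = M i j) (_ : σ '' J = K) (_ : σ '' K = J) (φ : W → W)
      (_ : ∀ v w, φ (v * w) = φ v * φ w) (_ : Function.Injective φ)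
      (_ : ∀ i, φ (cs.simple i) = cs.simple (σ i)) (w : W),
      ∃ a ∈ WJ cs J, ∃ b ∈ WJ cs K, φ w⁻¹ = a * w * b)
    (hcase : (∀ {W : Type u} [Group W] [Finite W] (cs : CoxeterSystem M W) (_ : Function.Injective cs.simple),
        ∀ i ∈ J, op cs i ∈ J) ∨
      ∀ {W : Type u} [Group W] [Finite W] (cs : CoxeterSystem M W), ∃ v : W, ∀ w : W, w ∈ WJ cs J ∨
        ∃ a ∈ WJ cs J, ∃ b ∈ WJ cs J, w = a * v * b) : R3 G N := by
  obtain ⟨P, U, e, hs, hN, cs, hcs⟩ := h
  have hfin : Finite I := OfBN.finite_I e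
  have hsym : ∀ x (hx : x ∈ (stb P.B : Subgroup G)), ∃ σ : Equiv.Perm I, (∀ i, σ i = sig e cs hcs hx i) ∧
      ∀ i j, M (σ i) (σ j) = M i j := fun x hx =>
    ⟨Equiv.ofBijective _ (Finite.injective_iff_bijective.1 (sig_inj e cs hcs hx)), fun i => rfl,
      fun i j => label_sig e cs hcs hx i j⟩
  refine r3_of_two (K := K) e cs hcs hna hL hs hj hne ?_ (fun w => hR1 cs w) ?_ ?_
  · intro x hx
    obtain ⟨σ, hσ, hM⟩ := hsym x hx
    rcases hJ σ hM with h1 | ⟨h1, h2⟩
    · left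
      intro j hj
      rw [← hσ, ← h1]
      exact ⟨j, hj, rfl⟩
    · right
      refine ⟨fun j hj => ?_, fun k hk => ?_⟩
      · rw [← hσ, ← h1]
        exact ⟨j, hj, rfl⟩
      · rw [← hσ, ← h2]
        exact ⟨k, hk, rfl⟩
  · intro x hx h1 h2 w
    obtain ⟨σ, hσ, hM⟩ := hsym x hx
    have h3 : σ '' J ⊆ K := by
      rintro _ ⟨j, hj, rfl⟩
      rw [hσ]
      exact h1 j hj
    have h4 : σ '' K ⊆ J := by
      rintro _ ⟨j, hj, rfl⟩
      rw [hσ]
      exact h2 j hj
    have h5 : J.ncard ≤ K.ncard := by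
      have := Set.ncard_le_ncard h3 (Set.toFinite K)
      rwa [Set.ncard_image_of_injective J σ.injective] at this
    have h6 : K.ncard ≤ J.ncard := by
      have := Set.ncard_le_ncard h4 (Set.toFinite J)
      rwa [Set.ncard_image_of_injective K σ.injective] at this
    refine hR2 cs σ hM ?_ ?_ _ (fW_mul e cs hcs hx) (fW_inj (P := P) hx) (fun i => ?_) w
    · exact Set.eq_of_subset_of_ncard_le h3 (by rwa [Set.ncard_image_of_injective J σ.injective]) (Set.toFinite K)
    · exact Set.eq_of_subset_of_ncard_le h4 (by rwa [Set.ncard_image_of_injective K σ.injective]) (Set.toFinite J)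
    · rw [fW_simple e cs hcs hx, hσ]
  · rcases hcase with h1 | h1
    · exact Or.inl (fun a ha => hop_of_op cs (h1 cs (simple_inj e cs hcs)) ha)
    · right
      obtain ⟨v, hv⟩ := h1 cs
      obtain ⟨g, hg⟩ := wt_surjective P v
      refine ⟨g, fun y => ?_⟩
      rcases hv (wt P y) with h2 | ⟨a, ha, b, hb, h2⟩
      · exact Or.inl ((mem_PJ P e cs hcs).2 h2)
      · right
        have h3 : DoubleCoset.setoid (PJ P e J : Set N) (PJ P e J : Set N) g y := by
          rw [setoid_iff P e cs hcs, DoubleCoset.rel_iff]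
          exact ⟨a, ha, b, hb, by rw [h2, hg]⟩
        exact DoubleCoset.rel_iff.1 h3

/-- rows from the criterion -/
theorem row_of_type {S : Type u} [Group S] [Finite S] [IsSimpleGroup S] (hna : ¬ IsMulCommutative S)
    (hL : IsLieTypeChar 2 S)
    (h : ∀ (G : Type u) [Group G] [Finite G] (N : Subgroup G) [N.Normal] [IsSimpleGroup N] (_ : S ≃* N),
      (∃ a b : N, a * b ≠ b * a) → IsLieTypeChar 2 N → R3 G N) : Row S := by
  rintro G _ _ N _ ⟨f⟩ - -
  have : IsSimpleGroup N := MulEquiv.isSimpleGroup f.symm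
  have hna' : ∃ a b : S, a * b ≠ b * a := by
    by_contra hcon
    push Not at hcon
    exact hna ⟨⟨hcon⟩⟩
  obtain ⟨a, b, hab⟩ := hna'
  refine h G N f ⟨f a, f b, fun h1 => hab (f.injective ?_)⟩ (OddHalf.Known.isLieTypeChar_congr f hL)
  rw [map_mul, map_mul, h1]

end Cfsg.Agent.H685.R4
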