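import Cfsg.Agent.H685.R4.Crit
import Cfsg.Agent.H685.R4.WA
import Cfsg.Agent.H60.HerTwF4

/-!
# S4554, groups of Lie type of characteristic two and rank at least two: the rows (helper685)

* `row_A`, `row_B`, `row_D`, `row_E6`, `row_E7`, `row_E8`, `row_F4`, `row_G2` : from the type of a root group datum;
* `row_twF4` : the groups `²F₄(q)`;
* `row_lie_two` : every group of Lie type of characteristic two except `PSL₂(q)`, `PSU₃(q)`, `Sz(q)`.
-/

set_option autoImplicit false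
set_option linter.unusedSectionVars false

namespace Cfsg.Agent.H685.R4

open Cfsg Cfsg.Agent.Tits.Core Cfsg.Agent.H612
open Cfsg.Agent.H619.R4 (RD R3 Row)
open Cfsg.Agent.Omega.ML.Ex.Typ
open Cfsg.Agent.LieRecognition.BNCox (cA)

universe u

variable {S : Type u} [Group S] [Finite S] [IsSimpleGroup S]

/-- the type of the (B,N)-pair of a group isomorphic to `S` -/
theorem splitT_of {l : ℕ} {M : CoxeterMatrix (Fin l)} (hl : 0 < l) (h : HasRGDT 2 M S) {L : Type u} [Group L]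
    [IsSimpleGroup L] (f : S ≃* L) : HasSplitT 2 M L := (h.of_equiv f).hasSplitT Nat.prime_two hl

/-- **Type `A_n`, `n ≥ 2`.** -/
theorem row_A (hna : ¬ IsMulCommutative S) (hL : IsLieTypeChar 2 S) {n : ℕ} (hn : 2 ≤ n) (h : HasRGDT 2 (cA n) S) :
    Row S := by
  refine row_of_type hna hL fun G _ _ N _ _ f hna' hL' => ?_
  refine r3_swap hna' hL' (splitT_of (by omega) h f) (J := {i : Fin n | (i : ℕ) ≠ 0})
    (K := {i : Fin n | (i : ℕ) ≠ n - 1}) (j := ⟨n - 1, by omega⟩) (show n - 1 ≠ 0 by omega) ?_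
    (fun σ hσ => WA.sym_A' hn σ hσ) (fun cs w => WA.hR_A (by omega) cs w)
    (fun cs σ _ h1 h2 φ hφ hφi hφs w => WA.hR2_A (by omega) cs σ h1 h2 φ hφ hφi hφs w)
    (Or.inr fun cs => WA.two_A (by omega) cs)
  intro hJ
  have h1 : (⟨0, by omega⟩ : Fin n) ∈ {i : Fin n | (i : ℕ) ≠ 0} := by rw [hJ]; trivial
  exact h1 rfl

/-- rank two -/
theorem r3_two {G : Type u} [Group G] [Finite G] {N : Subgroup G} [N.Normal] [IsSimpleGroup N]
    (hna : ∃ a b : N, a * b ≠ b * a) (hL : IsLieTypeChar 2 N) {M : CoxeterMatrix (Fin 2)} (hM : Even (M 0 1))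
    (h : HasSplitT 2 M N) : R3 G N := by
  refine r3_swap hna hL h (J := {0}) (K := {1}) (j := 0) rfl ?_ (fun σ _ => WA.sym_two σ)
    (fun cs w => WA.hR_two cs w) (fun cs σ _ h1 _ φ hφ _ hφs w => WA.hR2_two cs σ h1 φ hφ hφs w)
    (Or.inl fun cs _ => WA.op_two cs hM)
  intro hJ
  have h1 : (1 : Fin 2) ∈ ({0} : Set (Fin 2)) := by rw [hJ]; trivial
  exact absurd h1 (by simp)

/-- **Type `B_n`, `n ≥ 2`.** -/
theorem row_B (hna : ¬ IsMulCommutative S) (hL : IsLieTypeChar 2 S) {n : ℕ} (hn : 2 ≤ n)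
    (h : HasRGDT 2 (CoxeterMatrix.B n) S) : Row S := by
  refine row_of_type hna hL fun G _ _ N _ _ f hna' hL' => ?_
  rcases Nat.lt_or_ge n 3 with h3 | h3
  · obtain rfl : n = 2 := by omega
    refine r3_two hna' hL' (M := CoxeterMatrix.B 2) ?_ (splitT_of (by omega) h f)
    rw [Sym.B_apply]
    decide
  · refine r3_stable hna' hL' (splitT_of (by omega) h f) (J := {i : Fin n | (i : ℕ) ≠ 0}) (j := ⟨1, by omega⟩)
      (show 1 ≠ 0 by omega) ?_ (fun σ hσ => Sym.sym_B h3 σ hσ) (fun cs w => WInv.hR_B (by omega) cs w)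
    intro hJ
    have h1 : (⟨0, by omega⟩ : Fin n) ∈ {i : Fin n | (i : ℕ) ≠ 0} := by rw [hJ]; trivial
    exact h1 rfl

/-- **Type `D_n`, `n ≥ 4`.** -/
theorem row_D (hna : ¬ IsMulCommutative S) (hL : IsLieTypeChar 2 S) {n : ℕ} (hn : 2 ≤ n)
    (h : HasRGDT 2 (Nodes.TypeD.M n) S) : Row S := by
  refine row_of_type hna hL fun G _ _ N _ _ f hna' hL' => ?_
  rcases Nat.lt_or_ge n 3 with h3 | h3
  · obtain rfl : n = 2 := by omega
    refine r3_stable hna' hL' (splitT_of (by omega) h f) (J := {i : Fin 4 | i ≠ 1}) (j := 0)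
      (show (0 : Fin 4) ≠ 1 by decide) ?_ (fun σ hσ => RowsTab.sym_D4 σ hσ) (fun cs w => WExc.hR_D4 cs w)
    intro hJ
    have h1 : (1 : Fin 4) ∈ {i : Fin 4 | i ≠ 1} := by rw [hJ]; trivial
    exact h1 rfl
  · refine r3_stable hna' hL' (splitT_of (by omega) h f) (J := {i : Fin (n + 2) | (i : ℕ) ≠ 0}) (j := ⟨1, by omega⟩)
      (show 1 ≠ 0 by omega) ?_ (fun σ hσ => Sym.sym_D h3 σ hσ) (fun cs w => WInv.hR_D (by omega) cs w)
    intro hJ
    have h1 : (⟨0, by omega⟩ : Fin (n + 2)) ∈ {i : Fin (n + 2) | (i : ℕ) ≠ 0} := by rw [hJ]; trivial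
    exact h1 rfl

/-- **Type `E_6`.** -/
theorem row_E6 (hna : ¬ IsMulCommutative S) (hL : IsLieTypeChar 2 S) (h : HasRGDT 2 CoxeterMatrix.E₆ S) : Row S := by
  refine row_of_type hna hL fun G _ _ N _ _ f hna' hL' => ?_
  refine r3_stable hna' hL' (splitT_of (by omega) h f) (J := {i : Fin 6 | i ≠ 1}) (j := 0)
    (show (0 : Fin 6) ≠ 1 by decide) ?_ (fun σ hσ => WExc.sym_E6 σ hσ) (fun cs w => WExc.hR_E6 cs w)
  intro hJ
  have h1 : (1 : Fin 6) ∈ {i : Fin 6 | i ≠ 1} := by rw [hJ]; trivial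
  exact h1 rfl

/-- **Type `E_7`.** -/
theorem row_E7 (hna : ¬ IsMulCommutative S) (hL : IsLieTypeChar 2 S) (h : HasRGDT 2 CoxeterMatrix.E₇ S) : Row S := by
  refine row_of_type hna hL fun G _ _ N _ _ f hna' hL' => ?_
  refine r3_stable hna' hL' (splitT_of (by omega) h f) (J := {i : Fin 7 | i ≠ 0}) (j := 1)
    (show (1 : Fin 7) ≠ 0 by decide) ?_ (fun σ hσ => RowsTab.sym_E7 σ hσ) (fun cs w => WExc.hR_E7 cs w)
  intro hJ
  have h1 : (0 : Fin 7) ∈ {i : Fin 7 | i ≠ 0} := by rw [hJ]; trivial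
  exact h1 rfl

/-- **Type `E_8`.** -/
theorem row_E8 (hna : ¬ IsMulCommutative S) (hL : IsLieTypeChar 2 S) (h : HasRGDT 2 CoxeterMatrix.E₈ S) : Row S := by
  refine row_of_type hna hL fun G _ _ N _ _ f hna' hL' => ?_
  refine r3_stable hna' hL' (splitT_of (by omega) h f) (J := {i : Fin 8 | i ≠ 7}) (j := 0)
    (show (0 : Fin 8) ≠ 7 by decide) ?_ (fun σ hσ => WExc.sym_E8 σ hσ) (fun cs w => WExc.hR_E8 cs w)
  intro hJ
  have h1 : (7 : Fin 8) ∈ {i : Fin 8 | i ≠ 7} := by rw [hJ]; trivial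
  exact h1 rfl

/-- **Type `F_4`.** -/
theorem row_F4 (hna : ¬ IsMulCommutative S) (hL : IsLieTypeChar 2 S) (h : HasRGDT 2 CoxeterMatrix.F₄ S) : Row S := by
  refine row_of_type hna hL fun G _ _ N _ _ f hna' hL' => ?_
  refine r3_swap hna' hL' (splitT_of (by omega) h f) (J := {i : Fin 4 | i ≠ 0}) (K := {i : Fin 4 | i ≠ 3}) (j := 1)
    (show (1 : Fin 4) ≠ 0 by decide) ?_ (fun σ hσ => WExc.sym_F4 σ hσ) (fun cs w => WExc.hR_F4 cs w)
    (fun cs σ hσ h1 h2 φ hφ hφi hφs w => WExc.hR2_F4 cs σ hσ h1 h2 φ hφ hφi hφs w)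
    (Or.inl fun cs hinj => WA.op_F4 cs hinj)
  intro hJ
  have h1 : (0 : Fin 4) ∈ {i : Fin 4 | i ≠ 0} := by rw [hJ]; trivial
  exact h1 rfl

/-- **Type `G_2`.** -/
theorem row_G2 (hna : ¬ IsMulCommutative S) (hL : IsLieTypeChar 2 S) (h : HasRGDT 2 CoxeterMatrix.G₂ S) : Row S := by
  refine row_of_type hna hL fun G _ _ N _ _ f hna' hL' => ?_
  exact r3_two hna' hL' (M := CoxeterMatrix.G₂) (by decide) (splitT_of (by omega) h f)

/-- **The groups `²F₄(q)`.** -/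
theorem row_twF4 (hna : ¬ IsMulCommutative S) (h : Lie.Iso2F4 S) : Row S := by
  have hL : IsLieTypeChar 2 S := by
    unfold IsLieTypeChar
    simp only [true_and]
    tauto
  obtain ⟨K, i1, i2, m, hm, hK, ⟨e⟩⟩ := h
  refine row_of_type hna hL fun G _ _ N _ _ f hna' hL' => ?_
  obtain ⟨M, hM, hT⟩ := H60.HerTwF4.hasSplitT hm hK (e.symm.trans f)
  exact r3_two hna' hL' (by rw [hM]; decide) hT

end Cfsg.Agent.H685.R4
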